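import Groth.Agent.Vancyc.H261.Morsify
import Mathlib.RingTheory.MvPolynomial.Ideal
import Mathlib.FieldTheory.IsAlgClosed.Basic

/-!
# Morsification: the final form (subtask C3 of S4015)

* `exists_morse_of_lt`: for every `d` large, a polynomial `f` with Fermat top form `∑ X i ^ d`, with the same `N`-jet
  at `0` as `f₀` and such that all critical points `a ≠ 0` of `f` are nondegenerate.
* `exists_morse`: the same with some `d`.
-/

set_option autoImplicit false

universe u

open MvPolynomial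

namespace Groth.Agent.Vancyc.H261.Morse

variable {k : Type u} [Field k] {σ : Type} [Fintype σ]

omit [Fintype σ] in
theorem mem_pow_of_isHomogeneous {h : MvPolynomial σ k} {e : ℕ} (hh : h.IsHomogeneous e) {N : ℕ} (hN : N ≤ e) :
    h ∈ (Ideal.span (Set.range (X : σ → MvPolynomial σ k))) ^ N := by
  change h ∈ idealOfVars σ k ^ N
  rw [mem_pow_idealOfVars_iff]
  intro x hx
  rw [Finsupp.degree_eq_weight_one]
  exact hN.trans_eq (hh (mem_support_iff.mp hx)).symm

/-- **Morsification** with prescribed jet and Fermat top form of every large degree. -/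
theorem exists_morse_of_lt [DecidableEq σ] [CharZero k] (f₀ : MvPolynomial σ k) (N d : ℕ) (hd : 3 ≤ d) (hNd : N < d)
    (hf₀ : f₀.totalDegree < d) :
    ∃ f : MvPolynomial σ k, (f - ∑ i, X i ^ d).totalDegree < d ∧
      f - f₀ ∈ (Ideal.span (Set.range (X : σ → MvPolynomial σ k))) ^ N ∧
      ∀ a : σ → k, (∀ i, eval a (pderiv i f) = 0) → a ≠ 0 →
        (Matrix.of fun i j => eval a (pderiv i (pderiv j f))).det ≠ 0 := by
  obtain ⟨e, rfl⟩ : ∃ e, d = e + 1 := ⟨d - 1, by omega⟩
  obtain ⟨h, hh, H⟩ := Morsify.exists_form f₀ (N := e) (by omega)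
  have h1 : f₀ + h + Morsify.fermat k σ (e + 1) - ∑ i, X i ^ (e + 1) = f₀ + h := by
    rw [Morsify.fermat, add_sub_cancel_right]
  refine ⟨f₀ + h + Morsify.fermat k σ (e + 1), ?_, ?_, fun a ha ha0 => ?_⟩
  · rw [h1]
    refine (totalDegree_add _ _).trans_lt (max_lt hf₀ ?_)
    exact hh.totalDegree_le.trans_lt (Nat.lt_succ_self e)
  · rw [add_assoc, add_sub_cancel_left]
    exact add_mem (mem_pow_of_isHomogeneous hh (by omega))
      (mem_pow_of_isHomogeneous (Morsify.fermat_isHomogeneous (e + 1)) (by omega))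
  · have h2 := (H a ha0 ha).ne_zero
    rw [← Matrix.det_transpose] at h2
    exact h2

/-- Subtask C3 of S4015. -/
theorem exists_morse (k : Type u) [Field k] [IsAlgClosed k] [CharZero k] (m : ℕ) (f₀ : MvPolynomial (Fin m) k)
    (N : ℕ) :
    ∃ (d : ℕ) (f : MvPolynomial (Fin m) k), 2 ≤ d ∧ (f - ∑ i, X i ^ d).totalDegree < d ∧
      f - f₀ ∈ (Ideal.span (Set.range (X : Fin m → MvPolynomial (Fin m) k))) ^ N ∧
      ∀ a : Fin m → k, (∀ i, eval a (pderiv i f) = 0) → a ≠ 0 →
        (Matrix.of fun i j => eval a (pderiv i (pderiv j f))).det ≠ 0 := by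
  obtain ⟨f, h1, h2, h3⟩ := exists_morse_of_lt f₀ N (N + f₀.totalDegree + 3) (by omega) (by omega) (by omega)
  exact ⟨_, f, by omega, h1, h2, h3⟩

end Groth.Agent.Vancyc.H261.Morse
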