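import Groth.Agent.Vancyc.H261.GenPt

/-!
# The standard polynomial has an isolated critical point at the origin
-/

set_option autoImplicit false
set_option linter.unusedSectionVars false

universe u v

open MvPolynomial

namespace Groth.Agent.Vancyc.H261.GenPtStd

open GenPtStep GenPtJet GenPtLoc GenPtNF

variable {k : Type u} [Field k]

section Tau

variable {κ : Type} [Fintype κ] [DecidableEq κ]

theorem pderiv_hyp_inl (l : κ) : pderiv (Sum.inl l) (hyp k κ) = X (Sum.inr l) := by
  rw [hyp, map_sum, Finset.sum_eq_single l]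
  · rw [pderiv_mul, pderiv_X_self, pderiv_X_of_ne (by simp), mul_zero, add_zero, one_mul]
  · intro j _ hj
    rw [pderiv_mul, pderiv_X_of_ne (by simpa using hj), pderiv_X_of_ne (by simp), mul_zero, zero_mul, add_zero]
  · intro h
    exact absurd (Finset.mem_univ _) h

theorem pderiv_hyp_inr (l : κ) : pderiv (Sum.inr l) (hyp k κ) = X (Sum.inl l) := by
  rw [hyp, map_sum, Finset.sum_eq_single l]
  · rw [pderiv_mul, pderiv_X_self, pderiv_X_of_ne (by simp), zero_mul, zero_add, mul_one]
  · intro j _ hj
    rw [pderiv_mul, pderiv_X_of_ne (by simp), pderiv_X_of_ne (by simpa using hj), mul_zero, zero_mul, add_zero]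
  · intro h
    exact absurd (Finset.mem_univ _) h

theorem pderiv_hyp'_z : pderiv (Sum.inl ()) (hyp' k κ) = 0 := by
  rw [hyp', map_sum, Finset.sum_eq_zero]
  intro j _
  rw [pderiv_mul, pderiv_X_of_ne (by simp), pderiv_X_of_ne (by simp), mul_zero, zero_mul, add_zero]

theorem pderiv_hyp'_inl (l : κ) : pderiv (Sum.inr (Sum.inl l)) (hyp' k κ) = X (Sum.inr (Sum.inr l)) := by
  rw [hyp', map_sum, Finset.sum_eq_single l]
  · rw [pderiv_mul, pderiv_X_self, pderiv_X_of_ne (by simp), mul_zero, add_zero, one_mul]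
  · intro j _ hj
    rw [pderiv_mul, pderiv_X_of_ne (by simpa using hj), pderiv_X_of_ne (by simp), mul_zero, zero_mul, add_zero]
  · intro h
    exact absurd (Finset.mem_univ _) h

theorem pderiv_hyp'_inr (l : κ) : pderiv (Sum.inr (Sum.inr l)) (hyp' k κ) = X (Sum.inr (Sum.inl l)) := by
  rw [hyp', map_sum, Finset.sum_eq_single l]
  · rw [pderiv_mul, pderiv_X_self, pderiv_X_of_ne (by simp), zero_mul, zero_add, mul_one]
  · intro j _ hj
    rw [pderiv_mul, pderiv_X_of_ne (by simp), pderiv_X_of_ne (by simpa using hj), mul_zero, zero_mul, add_zero]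
  · intro h
    exact absurd (Finset.mem_univ _) h

theorem pderiv_odd_inr (x : κ ⊕ κ) : pderiv (Sum.inr x) (odd k κ) = 0 := by
  have h1 : ∀ n, pderiv (Sum.inr x) (z k κ ^ n) = 0 := by
    intro n
    rw [pderiv_pow, pderiv_X_of_ne (by simp), mul_zero]
  rw [odd]
  split_ifs
  · rw [map_add, h1, h1, add_zero]
  · rw [h1]

theorem constantCoeff_hyp : constantCoeff (hyp k κ) = 0 := by
  rw [hyp, map_sum, Finset.sum_eq_zero]
  intro j _
  rw [map_mul, constantCoeff_X, zero_mul]

theorem constantCoeff_hyp' : constantCoeff (hyp' k κ) = 0 := by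
  rw [hyp', map_sum, Finset.sum_eq_zero]
  intro j _
  rw [map_mul, constantCoeff_X, zero_mul]

theorem constantCoeff_odd : constantCoeff (odd k κ) = 0 := by
  rw [odd]
  split_ifs
  · rw [map_add, map_pow, map_pow, constantCoeff_X]
    simp
  · rw [map_pow, constantCoeff_X]
    simp

theorem pderiv_odd_z : pderiv (Sum.inl ()) (odd k κ) =
    open Classical in if (2 : k) = 0 then z k κ ^ 2 else C 2 * z k κ := by
  rw [odd]
  by_cases h2 : (2 : k) = 0
  · rw [if_pos h2, if_pos h2, map_add, pderiv_pow, pderiv_pow, pderiv_X_self]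
    have htwo : (2 : MvPolynomial (Unit ⊕ (κ ⊕ κ)) k) = 0 := by
      have : (2 : MvPolynomial (Unit ⊕ (κ ⊕ κ)) k) = C (2 : k) := (map_ofNat C 2).symm
      rw [this, h2, C_0]
    push_cast
    linear_combination (z k κ + z k κ ^ 2) * htwo
  · rw [if_neg h2, if_neg h2, pderiv_pow, pderiv_X_self]
    have : (2 : MvPolynomial (Unit ⊕ (κ ⊕ κ)) k) = C (2 : k) := (map_ofNat C 2).symm
    push_cast
    rw [← this]
    ring

end Tau

theorem sq_le {τ : Type} [Fintype τ] (I : Ideal (MvPolynomial τ k)) (x : τ)
    (h1 : ∀ i, i ≠ x → X i ∈ I) (h2 : X x * X x ∈ I) : idealOfVars τ k ^ 2 ≤ I := by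
  rw [sq, Ideal.mul_le]
  intro p hp q hq
  refine Submodule.span_induction (p := fun p _ => p * q ∈ I) ?_ ?_ ?_ ?_ hp
  · rintro _ ⟨i, rfl⟩
    by_cases hi : i = x
    · subst hi
      refine Submodule.span_induction (p := fun q _ => X i * q ∈ I) ?_ ?_ ?_ ?_ hq
      · rintro _ ⟨j, rfl⟩
        by_cases hj : j = i
        · subst hj
          exact h2
        · exact Ideal.mul_mem_left _ _ (h1 j hj)
      · rw [mul_zero]
        exact zero_mem _
      · intro a b _ _ ha hb
        rw [mul_add]
        exact add_mem ha hb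
      · intro a b _ hb
        rw [smul_eq_mul, mul_left_comm]
        exact Ideal.mul_mem_left _ _ hb
    · exact Ideal.mul_mem_right _ _ (h1 i hi)
  · rw [zero_mul]
    exact zero_mem _
  · intro a b _ _ ha hb
    rw [add_mul]
    exact add_mem ha hb
  · intro a b _ hb
    rw [smul_eq_mul, mul_assoc]
    exact Ideal.mul_mem_left _ _ hb

theorem sq_le_all {τ : Type} [Fintype τ] (I : Ideal (MvPolynomial τ k))
    (h1 : ∀ i, X i ∈ I) : idealOfVars τ k ^ 2 ≤ I :=
  (Ideal.pow_le_self two_ne_zero).trans (Ideal.span_le.mpr (by rintro _ ⟨i, rfl⟩; exact h1 i))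

/-- The origin is a critical point of `std k s` with value `0`. -/
theorem constantCoeff_std (s : ℕ) : constantCoeff (std k s) = 0 := by
  classical
  rw [std]
  split_ifs
  · rw [constantCoeff_rename, constantCoeff_hyp]
  · rw [constantCoeff_rename, map_add, constantCoeff_hyp', constantCoeff_odd, add_zero]

theorem pderiv_rename_equiv {τ ρ : Type} (e : τ ≃ ρ) (x : τ) (p : MvPolynomial τ k) :
    pderiv (e x) (rename e p) = rename e (pderiv x p) := pderiv_rename e.injective x p

/-- The Jacobian ideal of `std k s` contains `(X) ^ 2`. -/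
theorem sq_le_jacobian (s : ℕ) :
    idealOfVars (Fin s) k ^ 2 ≤ Ideal.span (Set.range fun i => pderiv i (std k s)) := by
  classical
  by_cases hs : s % 2 = 0
  · set e := (exists_equiv_even hs).some with he
    have hstd : std k s = rename e (hyp k (Fin (s / 2))) := by rw [std, dif_pos hs]
    refine sq_le_all _ fun i => ?_
    obtain ⟨x, rfl⟩ := e.surjective i
    rcases x with l | l
    · refine Ideal.subset_span ⟨e (Sum.inr l), ?_⟩
      change pderiv (e (Sum.inr l)) (std k s) = _
      rw [hstd, pderiv_rename_equiv, pderiv_hyp_inr, rename_X]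
    · refine Ideal.subset_span ⟨e (Sum.inl l), ?_⟩
      change pderiv (e (Sum.inl l)) (std k s) = _
      rw [hstd, pderiv_rename_equiv, pderiv_hyp_inl, rename_X]
  · set e := (exists_equiv_odd hs).some with he
    have hstd : std k s = rename e (hyp' k (Fin (s / 2)) + odd k (Fin (s / 2))) := by rw [std, dif_neg hs]
    have hxy : ∀ x : Fin (s / 2) ⊕ Fin (s / 2), X (e (Sum.inr x)) ∈
        Ideal.span (Set.range fun i => pderiv i (std k s)) := by
      rintro (l | l)
      · refine Ideal.subset_span ⟨e (Sum.inr (Sum.inr l)), ?_⟩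
        change pderiv (e _) (std k s) = _
        rw [hstd, pderiv_rename_equiv, map_add, pderiv_hyp'_inr, pderiv_odd_inr, add_zero, rename_X]
      · refine Ideal.subset_span ⟨e (Sum.inr (Sum.inl l)), ?_⟩
        change pderiv (e _) (std k s) = _
        rw [hstd, pderiv_rename_equiv, map_add, pderiv_hyp'_inl, pderiv_odd_inr, add_zero, rename_X]
    have hz : pderiv (e (Sum.inl ())) (std k s) = rename e (pderiv (Sum.inl ()) (odd k (Fin (s / 2)))) := by
      rw [hstd, pderiv_rename_equiv, map_add, pderiv_hyp'_z, zero_add]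
    refine sq_le _ (e (Sum.inl ())) (fun i hi => ?_) ?_
    · obtain ⟨x, rfl⟩ := e.surjective i
      rcases x with x | x
      · exact absurd rfl hi
      · exact hxy x
    · have h1 : pderiv (e (Sum.inl ())) (std k s) ∈ Ideal.span (Set.range fun i => pderiv i (std k s)) :=
        Ideal.subset_span ⟨_, rfl⟩
      rw [hz, pderiv_odd_z] at h1
      by_cases h2 : (2 : k) = 0
      · rw [if_pos h2, map_pow, rename_X, sq] at h1
        exact h1
      · rw [if_neg h2, map_mul, rename_X, rename_C] at h1
        have h3 := Ideal.mul_mem_left _ (C (2 : k)⁻¹ * X (e (Sum.inl ()))) h1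
        have h4 : (C (2 : k)⁻¹ : MvPolynomial (Fin s) k) * C 2 = 1 := by rw [← C_mul, inv_mul_cancel₀ h2, C_1]
        have h5 : C (2 : k)⁻¹ * X (e (Sum.inl ())) * (C 2 * X (e (Sum.inl ()))) =
            X (e (Sum.inl ())) * X (e (Sum.inl ())) := by
          linear_combination (X (e (Sum.inl ())) * X (e (Sum.inl ()))) * h4
        rwa [h5] at h3

theorem constantCoeff_pderiv_std (s : ℕ) (i : Fin s) : constantCoeff (pderiv i (std k s)) = 0 := by
  classical
  by_cases hs : s % 2 = 0
  · set e := (exists_equiv_even hs).some with he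
    have hstd : std k s = rename e (hyp k (Fin (s / 2))) := by rw [std, dif_pos hs]
    obtain ⟨x, rfl⟩ := e.surjective i
    rcases x with l | l
    · rw [hstd, pderiv_rename_equiv, pderiv_hyp_inl, rename_X, constantCoeff_X]
    · rw [hstd, pderiv_rename_equiv, pderiv_hyp_inr, rename_X, constantCoeff_X]
  · set e := (exists_equiv_odd hs).some with he
    have hstd : std k s = rename e (hyp' k (Fin (s / 2)) + odd k (Fin (s / 2))) := by rw [std, dif_neg hs]
    obtain ⟨x, rfl⟩ := e.surjective i
    rcases x with x | l | l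
    · rw [hstd, pderiv_rename_equiv, map_add, pderiv_hyp'_z, zero_add, pderiv_odd_z, constantCoeff_rename]
      split_ifs
      · rw [map_pow, constantCoeff_X]
        simp
      · rw [map_mul, constantCoeff_X, mul_zero]
    · rw [hstd, pderiv_rename_equiv, map_add, pderiv_hyp'_inl, pderiv_odd_inr, add_zero, rename_X, constantCoeff_X]
    · rw [hstd, pderiv_rename_equiv, map_add, pderiv_hyp'_inr, pderiv_odd_inr, add_zero, rename_X, constantCoeff_X]

end Groth.Agent.Vancyc.H261.GenPtStd
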