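import Groth.Agent.Vancyc.H261.GenPtTwo
import Mathlib.LinearAlgebra.Matrix.Permutation

/-!
# Generic Morsification in every characteristic

`k` is algebraically closed of arbitrary characteristic.

* `exists_gen_of_lt`: for `f₀`, `N` and every `d > N + 3`, `d > totalDegree f₀` there is a polynomial `g` with Fermat top
  form `∑ X i ^ d`, `g - f₀ ∈ (X) ^ N`, all of whose critical points `a ≠ 0` are of the generic type `GenPtNF.IsGen`.
* `exists_gen`: for every `d ≥ 4` there is a polynomial `g` with Fermat top form `∑ X i ^ d`, all of whose critical points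
  are of the generic type.
-/

set_option autoImplicit false
set_option linter.unusedSectionVars false

universe u v

open MvPolynomial

namespace Groth.Agent.Vancyc.H261.GenPt

open GenPtStep GenPtJet GenPtLoc GenPtNF GenPtTwo

section Universal

variable {σ : Type} [Fintype σ] [LinearOrder σ] (i₀ : σ) {R : Type u} [CommRing R] {S : Type v} [CommRing S]

/-- The polar matrix. -/
noncomputable def Hm (c : (σ →₀ ℕ) → R) : Matrix σ σ R := Amat c + (Amat c).transpose

/-- The minor at the complement of `i₀`. -/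
noncomputable def HJ (c : (σ →₀ ℕ) → R) : Matrix {i : σ // i ≠ i₀} {i : σ // i ≠ i₀} R :=
  (Hm c).submatrix Subtype.val Subtype.val

/-- The kernel vector. -/
noncomputable def kerv (c : (σ →₀ ℕ) → R) (i : σ) : R :=
  if h : i ≠ i₀ then - ((HJ i₀ c).adjugate.mulVec fun j => Hm c j.1 i₀) ⟨i, h⟩ else (HJ i₀ c).det

/-- The discriminant. -/
noncomputable def DB (c : (σ →₀ ℕ) → R) : R :=
  (HJ i₀ c).det * (∑ j, (∑ i, kerv i₀ c i * Amat c i j) * kerv i₀ c j) * g3 c (kerv i₀ c)

theorem map_Hm (f : R →+* S) (c : (σ →₀ ℕ) → R) : (Hm c).map f = Hm fun β => f (c β) := by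
  rw [Hm, Hm, ← map_Amat f c]
  ext i j
  simp

theorem map_HJ (f : R →+* S) (c : (σ →₀ ℕ) → R) : (HJ i₀ c).map f = HJ i₀ fun β => f (c β) := by
  rw [HJ, HJ, ← map_Hm f c]
  rfl

theorem map_det_HJ (f : R →+* S) (c : (σ →₀ ℕ) → R) : f (HJ i₀ c).det = (HJ i₀ fun β => f (c β)).det := by
  rw [← map_HJ, RingHom.map_det]
  rfl

theorem map_kerv (f : R →+* S) (c : (σ →₀ ℕ) → R) (i : σ) : f (kerv i₀ c i) = kerv i₀ (fun β => f (c β)) i := by
  unfold kerv
  split_ifs with h
  · rw [map_neg, RingHom.map_mulVec]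
    congr 2
    · rw [← map_HJ]
      exact RingHom.map_adjugate f _
    · funext j
      rw [← map_Hm f c]
      rfl
  · exact map_det_HJ i₀ f c

theorem map_g3 (f : R →+* S) (c : (σ →₀ ℕ) → R) (v : σ → R) : f (g3 c v) = g3 (fun β => f (c β)) fun i => f (v i) := by
  rw [g3, g3, map_sum]
  refine Finset.sum_congr rfl fun β _ => ?_
  rw [map_mul, map_prod]
  simp only [map_pow]

theorem map_DB (f : R →+* S) (c : (σ →₀ ℕ) → R) : f (DB i₀ c) = DB i₀ fun β => f (c β) := by
  rw [DB, DB, map_mul, map_mul, map_det_HJ, map_g3, map_sum]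
  congr 1
  · congr 1
    refine Finset.sum_congr rfl fun j _ => ?_
    rw [map_mul, map_sum, map_kerv]
    congr 1
    refine Finset.sum_congr rfl fun i _ => ?_
    rw [map_mul, map_kerv, ← map_Amat f c]
    rfl
  · congr 1
    funext i
    exact map_kerv i₀ f c i

theorem kerv_self (c : (σ →₀ ℕ) → R) : kerv i₀ c i₀ = (HJ i₀ c).det := by
  rw [kerv, dif_neg (not_not.mpr rfl)]

theorem mulVec_kerv (c : (σ →₀ ℕ) → R) (j : σ) (hj : j ≠ i₀) : (Hm c).mulVec (kerv i₀ c) j = 0 := by
  rw [Matrix.mulVec, dotProduct, Fintype.sum_eq_add_sum_subtype_ne _ i₀, kerv_self]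
  have h1 : ∑ i : {i // i ≠ i₀}, Hm c j i.1 * kerv i₀ c i.1 =
      - ((HJ i₀ c).mulVec ((HJ i₀ c).adjugate.mulVec fun j => Hm c j.1 i₀)) ⟨j, hj⟩ := by
    rw [Matrix.mulVec, dotProduct, ← Finset.sum_neg_distrib]
    refine Finset.sum_congr rfl fun i _ => ?_
    rw [kerv, dif_pos i.2, mul_neg]
    rfl
  rw [h1, Matrix.mulVec_mulVec, Matrix.mul_adjugate, Matrix.smul_mulVec, Matrix.one_mulVec]
  simp only [Pi.smul_apply, smul_eq_mul]
  ring

/-- Extension by zero of a table of jet coordinates. -/
noncomputable def ext0 {R : Type v} [CommRing R] (c : J σ 3 → R) (β : σ →₀ ℕ) : R :=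
  open Classical in if h : 2 ≤ β.degree ∧ β.degree ≤ 3 then c ⟨β, h⟩ else 0

theorem map_ext0 {R S : Type v} [CommRing R] [CommRing S] (f : R →+* S) (c : J σ 3 → R) (β : σ →₀ ℕ) :
    f (ext0 c β) = ext0 (fun x => f (c x)) β := by
  unfold ext0
  split_ifs
  · rfl
  · exact map_zero f

theorem Amat_congr {c c' : (σ →₀ ℕ) → R} (h : ∀ β, β.degree = 2 → c β = c' β) : Amat c = Amat c' := by
  ext i j
  simp only [Amat, Matrix.of_apply]
  split_ifs
  · refine h _ ?_
    rw [map_add, Finsupp.degree_single, Finsupp.degree_single]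
  · rfl

theorem g3_congr {c c' : (σ →₀ ℕ) → R} (h : ∀ β, β.degree = 3 → c β = c' β) (v : σ → R) : g3 c v = g3 c' v := by
  rw [g3, g3]
  exact Finset.sum_congr rfl fun β _ => by rw [h β.1 β.2]

end Universal

section Crit

variable {k : Type u} [Field k] {σ : Type} [Fintype σ] [DecidableEq σ]

theorem pderiv_tr (a : σ → k) (l : σ) (p : MvPolynomial σ k) :
    pderiv l (tr (k := k) a p) = tr (k := k) a (pderiv l p) := by
  induction p using MvPolynomial.induction_on with
  | C c => rw [tr_C, pderiv_C, pderiv_C, map_zero]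
  | add p q hp hq => simp only [map_add, hp, hq]
  | mul_X p i hp =>
    rw [map_mul, pderiv_mul, pderiv_mul, map_add, map_mul, map_mul, hp, tr_X, map_add, pderiv_C, zero_add]
    congr 2
    rw [pderiv_X]
    by_cases h : i = l
    · subst h
      rw [Pi.single_eq_same, map_one]
    · rw [Pi.single_eq_of_ne h, map_zero]

theorem constantCoeff_tr (a : σ → k) (p : MvPolynomial σ k) : constantCoeff (tr (k := k) a p) = eval a p := by
  induction p using MvPolynomial.induction_on with
  | C c =>
    rw [tr_C, constantCoeff_C, eval_C]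
    rfl
  | add p q hp hq => simp only [map_add, hp, hq]
  | mul_X p i hp =>
    rw [map_mul, map_mul, map_mul, hp, tr_X, map_add, constantCoeff_C, constantCoeff_X, add_zero, eval_X]

theorem coeff_single_tr (a : σ → k) (l : σ) (p : MvPolynomial σ k) :
    coeff (Finsupp.single l 1) (tr (k := k) a p) = eval a (pderiv l p) := by
  rw [← constantCoeff_pderiv_eq, pderiv_tr, constantCoeff_tr]

end Crit

section Disc

variable {k : Type u} [Field k] [IsAlgClosed k]

theorem Amat_pairs {s : ℕ} (c : (Fin s →₀ ℕ) → k)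
    (hc : ∀ i j : Fin s, i ≤ j → c (Finsupp.single i 1 + Finsupp.single j 1) = if j = Fin.rev i then 1 else 0) :
    Amat c = Matrix.of fun i j : Fin s => if i ≤ j ∧ j = Fin.rev i then 1 else 0 := by
  ext i j
  simp only [Amat, Matrix.of_apply]
  by_cases h : i ≤ j
  · rw [if_pos h, hc i j h]
    by_cases h' : j = Fin.rev i
    · rw [if_pos h', if_pos ⟨h, h'⟩]
    · rw [if_neg h', if_neg (fun hh => h' hh.2)]
  · rw [if_neg h, if_neg (fun hh => h hh.1)]

theorem Hm_pairs {s : ℕ} (c : (Fin s →₀ ℕ) → k)
    (hc : ∀ i j : Fin s, i ≤ j → c (Finsupp.single i 1 + Finsupp.single j 1) = if j = Fin.rev i then 1 else 0)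
    (i j : Fin s) (hij : i ≠ j) : Hm c i j = if j = Fin.rev i then 1 else 0 := by
  rw [Hm, Amat_pairs c hc]
  simp only [Matrix.add_apply, Matrix.transpose_apply, Matrix.of_apply]
  have h1 : i = Fin.rev j ↔ j = Fin.rev i := by
    constructor
    · rintro rfl
      rw [Fin.rev_rev]
    · rintro rfl
      rw [Fin.rev_rev]
  rcases lt_or_gt_of_ne hij with h | h
  · by_cases h2 : j = Fin.rev i
    · rw [if_pos ⟨h.le, h2⟩, if_neg (fun hh => absurd hh.1 (not_le.mpr h)), if_pos h2, add_zero]
    · rw [if_neg (fun hh => h2 hh.2), if_neg (fun hh => absurd hh.1 (not_le.mpr h)), if_neg h2, add_zero]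
  · by_cases h2 : j = Fin.rev i
    · rw [if_neg (fun hh => absurd hh.1 (not_le.mpr h)), if_pos ⟨h.le, h1.mpr h2⟩, if_pos h2, zero_add]
    · rw [if_neg (fun hh => absurd hh.1 (not_le.mpr h)), if_neg (fun hh => h2 (h1.mp hh.2)), if_neg h2, zero_add]

/-- The table of coefficients of `∑ X i X (rev i) + X i₀ ^ 3`. -/
noncomputable def tab {s : ℕ} (k : Type u) [Field k] (i₀ : Fin s) (β : Fin s →₀ ℕ) : k :=
  open Classical in if (∃ i, β = Finsupp.single i 1 + Finsupp.single (Fin.rev i) 1) ∨ β = Finsupp.single i₀ 3 then 1 else 0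

theorem tab_pair {s : ℕ} (i₀ : Fin s) (i j : Fin s) (_h : i ≤ j) :
    tab k i₀ (Finsupp.single i 1 + Finsupp.single j 1) = if j = Fin.rev i then 1 else 0 := by
  unfold tab
  by_cases h' : j = Fin.rev i
  · rw [if_pos h', if_pos]
    exact Or.inl ⟨i, by rw [h']⟩
  · rw [if_neg h', if_neg]
    rintro (⟨i', hi'⟩ | h2)
    · apply h'
      rw [Finsupp.single_add_single_eq_single_add_single one_ne_zero one_ne_zero] at hi'
      rcases hi' with ⟨h1, h2⟩ | ⟨-, h1, h2⟩ | ⟨h1, -⟩
      · rw [h2, h1]
      · rw [h2, h1, Fin.rev_rev]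
      · exact absurd h1 (by norm_num)
    · have := congrArg Finsupp.degree h2
      rw [map_add, Finsupp.degree_single, Finsupp.degree_single, Finsupp.degree_single] at this
      omega

/-- The universal table. -/
noncomputable def cX (k : Type u) [Field k] (s : ℕ) : (Fin s →₀ ℕ) → MvPolynomial (J (Fin s) 3) k := ext0 fun x => X x

theorem aeval_cX {s : ℕ} (c : (Fin s →₀ ℕ) → k) (β : Fin s →₀ ℕ) (hβ : β.degree = 2 ∨ β.degree = 3) :
    (aeval fun x : J (Fin s) 3 => c x.1 : MvPolynomial (J (Fin s) 3) k →ₐ[k] k) (cX k s β) = c β := by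
  unfold cX ext0
  rw [dif_pos (by omega)]
  exact aeval_X _ _

theorem det_ne_zero_even {s : ℕ} (hs : s % 2 = 0) (c : (Fin s →₀ ℕ) → k)
    (hc : ∀ i j : Fin s, i ≤ j → c (Finsupp.single i 1 + Finsupp.single j 1) = if j = Fin.rev i then 1 else 0) :
    (Hm c).det ≠ 0 := by
  have h1 : Hm c = (Fin.revPerm : Equiv.Perm (Fin s)).permMatrix k := by
    ext i j
    rw [Equiv.Perm.permMatrix, PEquiv.toMatrix_apply]
    by_cases hij : i = j
    · subst hij
      have h2 : i ≠ Fin.rev i := by
        intro h
        have := congrArg Fin.val h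
        rw [Fin.val_rev] at this
        omega
      rw [Hm, Amat_pairs c hc]
      simp only [Matrix.add_apply, Matrix.transpose_apply, Matrix.of_apply]
      rw [if_neg (fun hh => h2 hh.2), if_neg, add_zero]
      simp only [Equiv.toPEquiv_apply, Fin.revPerm_apply, Option.mem_def, Option.some.injEq]
      exact fun h => h2 h.symm
    · rw [Hm_pairs c hc i j hij]
      simp only [Equiv.toPEquiv_apply, Fin.revPerm_apply, Option.mem_def, Option.some.injEq]
      by_cases h : j = Fin.rev i
      · rw [if_pos h, if_pos h.symm]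
      · rw [if_neg h, if_neg (Ne.symm h)]
  rw [h1, Matrix.det_permutation]
  rcases Int.units_eq_one_or (Equiv.Perm.sign (Fin.revPerm : Equiv.Perm (Fin s))) with h | h <;> rw [h] <;> simp

/-- **The discriminant of the generic type.** -/
theorem exists_disc (k : Type u) [Field k] [IsAlgClosed k] (s : ℕ) :
    ∃ D : MvPolynomial (J (Fin s) 3) k, D ≠ 0 ∧ ∀ (g : MvPolynomial (Fin s) k) (a : Fin s → k),
      (∀ i, coeff (Finsupp.single i 1) (tr a g) = 0) →
      aeval (fun β : J (Fin s) 3 => coeff β.1 (tr a g)) D ≠ 0 → IsGen g a := by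
  classical
  by_cases hs : s % 2 = 0 ∨ (2 : k) ≠ 0
  · -- the nondegenerate case
    have key : ∀ c : (Fin s →₀ ℕ) → k,
        (aeval fun x : J (Fin s) 3 => c x.1 : MvPolynomial (J (Fin s) 3) k →ₐ[k] k) (Hm (cX k s)).det = (Hm c).det := by
      intro c
      have h1 : (aeval fun x : J (Fin s) 3 => c x.1 : MvPolynomial (J (Fin s) 3) k →ₐ[k] k) (Hm (cX k s)).det =
          ((Hm (cX k s)).map ((aeval fun x : J (Fin s) 3 => c x.1 : MvPolynomial (J (Fin s) 3) k →ₐ[k] k) :
            MvPolynomial (J (Fin s) 3) k →+* k)).det :=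
        RingHom.map_det ((aeval fun x : J (Fin s) 3 => c x.1 : MvPolynomial (J (Fin s) 3) k →ₐ[k] k) :
            MvPolynomial (J (Fin s) 3) k →+* k) _
      rw [h1, map_Hm]
      congr 1
      have hA : Amat (fun β => ((aeval fun x : J (Fin s) 3 => c x.1 : MvPolynomial (J (Fin s) 3) k →ₐ[k] k) :
            MvPolynomial (J (Fin s) 3) k →+* k) (cX k s β)) = Amat c :=
        Amat_congr fun β hβ => aeval_cX c β (Or.inl hβ)
      rw [Hm, Hm, hA]
    refine ⟨(Hm (cX k s)).det, fun h0 => ?_, fun g a hg hD => ?_⟩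
    · rcases hs with hs | hs
      · rcases Nat.eq_zero_or_pos s with h | h
        · subst h
          rw [Matrix.det_isEmpty] at h0
          exact one_ne_zero h0
        · have h1 := key (tab k ⟨0, h⟩)
          rw [h0, map_zero] at h1
          exact det_ne_zero_even hs _ (fun i j hij => tab_pair _ i j hij) h1.symm
      · have h1 := key (fun β => if ∃ i, β = Finsupp.single i 1 + Finsupp.single i 1 then 1 else 0)
        rw [h0, map_zero] at h1
        have h2 : Hm (fun β : Fin s →₀ ℕ => if ∃ i, β = Finsupp.single i 1 + Finsupp.single i 1 then (1 : k) else 0) =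
            Matrix.diagonal fun _ => (2 : k) := by
          have h3 : Amat (fun β : Fin s →₀ ℕ => if ∃ i, β = Finsupp.single i 1 + Finsupp.single i 1 then (1 : k) else 0) =
              1 := by
            ext i j
            rw [Amat, Matrix.of_apply, Matrix.one_apply]
            by_cases hij : i = j
            · subst hij
              rw [if_pos le_rfl, if_pos ⟨i, rfl⟩, if_pos rfl]
            · rw [if_neg hij]
              split_ifs with h4 h5
              · obtain ⟨i', hi'⟩ := h5
                rw [Finsupp.single_add_single_eq_single_add_single one_ne_zero one_ne_zero] at hi'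
                rcases hi' with ⟨h6, h7⟩ | ⟨-, h6, h7⟩ | ⟨h6, -⟩
                · exact absurd (h6.trans h7.symm) hij
                · exact absurd (h6.trans h7.symm) hij
                · exact absurd h6 (by norm_num)
              · rfl
              · rfl
          rw [Hm, h3, Matrix.transpose_one, ← Matrix.diagonal_one, Matrix.diagonal_add]
          congr 1
          funext _
          norm_num
        rw [h2, Matrix.det_diagonal, Finset.prod_const] at h1
        exact pow_ne_zero _ hs h1.symm
    · refine isGen_of_det g a hg hs ?_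
      rw [key fun β => coeff β (tr a g)] at hD
      exact hD
  · push Not at hs
    obtain ⟨hs, h2⟩ := hs
    have hs2 : s / 2 < s := by omega
    let i₀ : Fin s := ⟨s / 2, hs2⟩
    have hi₀ : ∀ i : Fin s, Fin.rev i = i ↔ i = i₀ := by
      intro i
      constructor
      · intro h
        have := congrArg Fin.val h
        rw [Fin.val_rev] at this
        apply Fin.ext
        change i.val = s / 2
        omega
      · rintro rfl
        apply Fin.ext
        rw [Fin.val_rev]
        change s - (s / 2 + 1) = s / 2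
        omega
    have key : ∀ c : (Fin s →₀ ℕ) → k,
        (aeval fun x : J (Fin s) 3 => c x.1 : MvPolynomial (J (Fin s) 3) k →ₐ[k] k) (DB i₀ (cX k s)) = DB i₀ c := by
      intro c
      have h1 := map_DB i₀ ((aeval fun x : J (Fin s) 3 => c x.1 : MvPolynomial (J (Fin s) 3) k →ₐ[k] k) :
            MvPolynomial (J (Fin s) 3) k →+* k) (cX k s)
      refine h1.trans ?_
      have hA : Amat (fun β => ((aeval fun x : J (Fin s) 3 => c x.1 : MvPolynomial (J (Fin s) 3) k →ₐ[k] k) :
            MvPolynomial (J (Fin s) 3) k →+* k) (cX k s β)) = Amat c :=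
        Amat_congr fun β hβ => aeval_cX c β (Or.inl hβ)
      have hH : Hm (fun β => ((aeval fun x : J (Fin s) 3 => c x.1 : MvPolynomial (J (Fin s) 3) k →ₐ[k] k) :
            MvPolynomial (J (Fin s) 3) k →+* k) (cX k s β)) = Hm c := by
        rw [Hm, Hm, hA]
      have hHJ : HJ i₀ (fun β => ((aeval fun x : J (Fin s) 3 => c x.1 : MvPolynomial (J (Fin s) 3) k →ₐ[k] k) :
            MvPolynomial (J (Fin s) 3) k →+* k) (cX k s β)) = HJ i₀ c := by
        rw [HJ, HJ, hH]
      have hK : kerv i₀ (fun β => ((aeval fun x : J (Fin s) 3 => c x.1 : MvPolynomial (J (Fin s) 3) k →ₐ[k] k) :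
            MvPolynomial (J (Fin s) 3) k →+* k) (cX k s β)) = kerv i₀ c := by
        funext i
        rw [kerv, kerv, hHJ, hH]
      have hG : g3 (fun β => ((aeval fun x : J (Fin s) 3 => c x.1 : MvPolynomial (J (Fin s) 3) k →ₐ[k] k) :
            MvPolynomial (J (Fin s) 3) k →+* k) (cX k s β)) (kerv i₀ c) = g3 c (kerv i₀ c) :=
        g3_congr (fun β hβ => aeval_cX c β (Or.inr hβ)) _
      rw [DB, DB, hHJ, hK, hA, hG]
    refine ⟨DB i₀ (cX k s), fun h0 => ?_, fun g a hg hD => ?_⟩
    · -- the example
      have h1 := key (tab k i₀)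
      rw [h0, map_zero] at h1
      set c := tab k i₀ with hc
      have hcp : ∀ i j : Fin s, i ≤ j → c (Finsupp.single i 1 + Finsupp.single j 1) = if j = Fin.rev i then 1 else 0 :=
        fun i j hij => tab_pair i₀ i j hij
      have hrev : ∀ i : {i : Fin s // i ≠ i₀}, Fin.rev i.1 ≠ i₀ := by
        rintro ⟨i, hi⟩ h
        have h3 : Fin.rev i₀ = i := by rw [← h, Fin.rev_rev]
        rw [(hi₀ i₀).mpr rfl] at h3
        exact hi h3.symm
      have hHJe : ∀ i j : {i : Fin s // i ≠ i₀}, HJ i₀ c i j = if j.1 = Fin.rev i.1 then 1 else 0 := by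
        intro i j
        by_cases hij : i = j
        · subst hij
          rw [if_neg (fun h => i.2 ((hi₀ i.1).mp h.symm))]
          change Amat c i.1 i.1 + Amat c i.1 i.1 = 0
          rw [← two_mul, h2, zero_mul]
        · exact Hm_pairs c hcp i.1 j.1 (fun h => hij (Subtype.ext h))
      have hHJ2 : HJ i₀ c * HJ i₀ c = 1 := by
        ext i j
        rw [Matrix.mul_apply, Matrix.one_apply, Finset.sum_eq_single (⟨Fin.rev i.1, hrev i⟩ : {i : Fin s // i ≠ i₀})]
        · rw [hHJe, hHJe, if_pos rfl, one_mul]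
          simp only [Fin.rev_rev]
          by_cases h : i = j
          · rw [if_pos h, if_pos (by rw [h])]
          · rw [if_neg h, if_neg (fun h' => h (Subtype.ext h'.symm))]
        · intro l _ hl
          rw [hHJe i l, if_neg (fun h => hl (Subtype.ext h)), zero_mul]
        · intro h
          exact absurd (Finset.mem_univ _) h
      have hdet : (HJ i₀ c).det ≠ 0 := by
        intro h
        have h3 := congrArg Matrix.det hHJ2
        rw [Matrix.det_mul, h, zero_mul, Matrix.det_one] at h3
        exact zero_ne_one h3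
      set δ := (HJ i₀ c).det with hδ
      have hker0 : kerv i₀ c i₀ = δ := kerv_self i₀ c
      have hker : ∀ i, i ≠ i₀ → kerv i₀ c i = 0 := by
        intro i hi
        have h3 : (fun j : {i : Fin s // i ≠ i₀} => Hm c j.1 i₀) = 0 := by
          funext j
          rw [Hm_pairs c hcp j.1 i₀ j.2, if_neg (fun h => hrev j h.symm)]
          rfl
        rw [kerv, dif_pos hi, h3, Matrix.mulVec_zero]
        simp
      have hA0 : Amat c i₀ i₀ = 1 := by
        rw [Amat_pairs c hcp, Matrix.of_apply, if_pos ⟨le_rfl, ((hi₀ i₀).mpr rfl).symm⟩]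
      have hQ : ∑ j, (∑ i, kerv i₀ c i * Amat c i j) * kerv i₀ c j = δ * δ := by
        rw [Finset.sum_eq_single i₀, Finset.sum_eq_single i₀, hker0, hA0, mul_one]
        · intro i _ hi
          rw [hker i hi, zero_mul]
        · intro h
          exact absurd (Finset.mem_univ _) h
        · intro i _ hi
          rw [hker i hi, mul_zero]
        · intro h
          exact absurd (Finset.mem_univ _) h
      have hG : g3 c (kerv i₀ c) = δ ^ 3 := by
        rw [g3, Finset.sum_eq_single (⟨Finsupp.single i₀ 3, Finsupp.degree_single _ _⟩ :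
          {β : Fin s →₀ ℕ // β.degree = 3})]
        · have h3 : c (Finsupp.single i₀ 3) = 1 := by
            rw [hc, tab, if_pos (Or.inr rfl)]
          rw [h3, one_mul, Finset.prod_eq_single i₀]
          · rw [hker0, Finsupp.single_eq_same]
          · intro i _ hi
            rw [Finsupp.single_eq_of_ne hi, pow_zero]
          · intro h
            exact absurd (Finset.mem_univ _) h
        · rintro ⟨β, hβ⟩ _ hne
          obtain ⟨j, hj, hj'⟩ : ∃ j, j ≠ i₀ ∧ β j ≠ 0 := by
            by_contra! hcon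
            apply hne
            apply Subtype.ext
            change β = Finsupp.single i₀ 3
            have h4 : β.degree = β i₀ := by
              rw [Finsupp.degree_eq_sum, Finset.sum_eq_single i₀]
              · intro j _ hj
                exact hcon j hj
              · intro h
                exact absurd (Finset.mem_univ _) h
            ext j
            by_cases hj : j = i₀
            · rw [hj, Finsupp.single_eq_same, ← h4, hβ]
            · rw [hcon j hj, Finsupp.single_eq_of_ne hj]
          change c β * ∏ i, kerv i₀ c i ^ β i = 0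
          rw [Finset.prod_eq_zero (Finset.mem_univ j), mul_zero]
          rw [hker j hj, zero_pow hj']
        · intro h
          exact absurd (Finset.mem_univ _) h
      rw [DB, hQ, hG] at h1
      exact mul_ne_zero (mul_ne_zero hdet (mul_ne_zero hdet hdet)) (pow_ne_zero 3 hdet) h1.symm
    · rw [key fun β => coeff β (tr a g)] at hD
      rw [DB] at hD
      have hD1 := left_ne_zero_of_mul (left_ne_zero_of_mul hD)
      have hD2 := right_ne_zero_of_mul (left_ne_zero_of_mul hD)
      have hD3 := right_ne_zero_of_mul hD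
      exact isGen_of_two g a hg hs h2 i₀ _ rfl (kerv i₀ fun β => coeff β (tr a g)) (by rw [kerv_self]; exact hD1)
        (fun j hj => mulVec_kerv i₀ _ j hj) hD1 hD2 hD3

/-- **Generic Morsification** with prescribed jet and Fermat top form of every large degree, any characteristic. -/
theorem exists_gen_of_lt {s : ℕ} (f₀ : MvPolynomial (Fin s) k) (N d : ℕ) (hN : N + 3 < d)
    (hf₀ : f₀.totalDegree < d) :
    ∃ g : MvPolynomial (Fin s) k, (g - ∑ i, X i ^ d).totalDegree < d ∧
      g - f₀ ∈ (Ideal.span (Set.range (X : Fin s → MvPolynomial (Fin s) k))) ^ N ∧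
      ∀ a : Fin s → k, (∀ i, eval a (pderiv i g) = 0) → a ≠ 0 → IsGen g a := by
  obtain ⟨D, hD, hD'⟩ := exists_disc k s
  have : Infinite k := inferInstance
  obtain ⟨q, hq, hq'⟩ := exists_generic 3 (by norm_num) (f₀ + ∑ i, X i ^ d) (fun t : Fin s => X t ^ N) D hD
  have hX : ∀ n, ∀ t : Fin s, (X t ^ n : MvPolynomial (Fin s) k) ∈ idealOfVars (Fin s) k ^ n := fun n t =>
    Ideal.pow_mem_pow (X_mem t) n
  refine ⟨f₀ + ∑ i, X i ^ d + ∑ t, X t ^ N * q t, ?_, ?_, fun a ha ha0 => ?_⟩
  · have h1 : f₀ + ∑ i, X i ^ d + ∑ t, X t ^ N * q t - ∑ i, X i ^ d = f₀ + ∑ t, X t ^ N * q t := by ring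
    rw [h1]
    refine (totalDegree_add _ _).trans_lt (max_lt hf₀ ?_)
    refine lt_of_le_of_lt (totalDegree_finsetSum_le (d := N + 3) fun t _ => ?_) hN
    refine (totalDegree_mul _ _).trans (add_le_add ?_ (hq t))
    rw [totalDegree_X_pow]
  · have h1 : f₀ + ∑ i, X i ^ d + ∑ t, X t ^ N * q t - f₀ = ∑ i, X i ^ d + ∑ t, X t ^ N * q t := by ring
    rw [h1]
    refine add_mem (sum_mem fun t _ => mem_of_le (by omega) (hX d t)) (sum_mem fun t _ => ?_)
    exact Ideal.mul_mem_right _ _ (hX N t)
  · have h1 : ∀ i, coeff (Finsupp.single i 1) (tr a (f₀ + ∑ i, X i ^ d + ∑ t, X t ^ N * q t)) = 0 := fun i => by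
      rw [coeff_single_tr]
      exact ha i
    refine hD' _ a h1 (hq' a ?_ h1)
    obtain ⟨t, ht⟩ : ∃ t, a t ≠ 0 := by
      by_contra! hcon
      exact ha0 (funext hcon)
    refine ⟨t, ?_⟩
    rw [map_pow, eval_X]
    exact pow_ne_zero _ ht

/-- **A polynomial with only generic critical points** and Fermat top form of any degree `≥ 4`. -/
theorem exists_gen (k : Type u) [Field k] [IsAlgClosed k] (s d : ℕ) (hd : 3 < d) :
    ∃ g : MvPolynomial (Fin s) k, (g - ∑ i, X i ^ d).totalDegree < d ∧
      ∀ a : Fin s → k, (∀ i, eval a (pderiv i g) = 0) → IsGen g a := by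
  obtain ⟨D, hD, hD'⟩ := exists_disc k s
  have : Infinite k := inferInstance
  obtain ⟨q, hq, hq'⟩ := exists_generic 3 (by norm_num) (∑ i, X i ^ d) (fun _ : Unit => (1 : MvPolynomial (Fin s) k))
    D hD
  refine ⟨∑ i, X i ^ d + ∑ t, 1 * q t, ?_, fun a ha => ?_⟩
  · rw [add_sub_cancel_left]
    refine lt_of_le_of_lt (totalDegree_finsetSum_le (d := 3) fun t _ => ?_) hd
    rw [one_mul]
    exact hq t
  · have h1 : ∀ i, coeff (Finsupp.single i 1) (tr a (∑ i, X i ^ d + ∑ t, 1 * q t)) = 0 := fun i => by
      rw [coeff_single_tr]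
      exact ha i
    refine hD' _ a h1 (hq' a ⟨(), ?_⟩ h1)
    rw [map_one]
    exact one_ne_zero

end Disc

end Groth.Agent.Vancyc.H261.GenPt
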