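import Groth.Agent.Vancyc.H261.GenPtRk
import Mathlib.RingTheory.Nilpotent.Basic
import Mathlib.RingTheory.Ideal.Quotient.Operations

/-!
# Generic jets at the critical points, any characteristic

* `tr a h`: the polynomial `h (a + X)`.
* `exists_generic`: let `w t` be finitely many polynomials and `D ≠ 0` a polynomial in the jet coordinates `c_β`,
  `2 ≤ |β| ≤ r`. There are polynomials `q t` of total degree `≤ r` such that for `g = f₀ + ∑ t, w t * q t` and every
  critical point `a` of `g` at which some `w t` does not vanish, `D` does not vanish at the jet of `g` at `a`.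
-/

set_option autoImplicit false
set_option linter.unusedSectionVars false

universe u v

open MvPolynomial

namespace Groth.Agent.Vancyc.H261.GenPtJet

open Groth.Agent.Lefpen.H701.Rk

section Basic

variable {k : Type u} [Field k] {K : Type v} [Field K] [Algebra k K] {σ : Type}

/-- Translation: `h ↦ h (a + X)`. -/
noncomputable def tr (a : σ → K) : MvPolynomial σ k →ₐ[k] MvPolynomial σ K := aeval fun i => C (a i) + X i

@[simp]
theorem tr_X (a : σ → K) (i : σ) : tr (k := k) a (X i) = C (a i) + X i := by rw [tr, aeval_X]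

@[simp]
theorem tr_C (a : σ → K) (c : k) : tr (k := k) a (C c) = C (algebraMap k K c) := by
  rw [tr, aeval_C]
  rfl

/-- The universal Taylor expansion. -/
noncomputable def tay : MvPolynomial σ k →ₐ[k] MvPolynomial σ (MvPolynomial σ k) := aeval fun i => C (X i) + X i

theorem map_tay (a : σ → K) (h : MvPolynomial σ k) :
    MvPolynomial.map ((aeval a : MvPolynomial σ k →ₐ[k] K) : MvPolynomial σ k →+* K) (tay h) = tr a h := by
  induction h using MvPolynomial.induction_on with
  | C c =>
    rw [tr_C, tay, aeval_C]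
    change MvPolynomial.map _ (C (C c)) = _
    rw [map_C]
    congr 1
    exact aeval_C a c
  | add p q hp hq => rw [map_add, map_add, map_add, hp, hq]
  | mul_X p i hp =>
    rw [map_mul, map_mul, map_mul, hp, tr_X]
    congr 1
    rw [tay, aeval_X, map_add, map_C, map_X]
    congr 2
    exact aeval_X a i

/-- The polynomial whose value at `a` is the coefficient of `X ^ β` in `h (a + X)`. -/
noncomputable def hs (β : σ →₀ ℕ) (h : MvPolynomial σ k) : MvPolynomial σ k := coeff β (tay h)

theorem aeval_hs (a : σ → K) (β : σ →₀ ℕ) (h : MvPolynomial σ k) : aeval a (hs β h) = coeff β (tr a h) := by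
  rw [← map_tay, coeff_map]
  rfl

theorem tr_map (a : σ → K) (h : MvPolynomial σ k) :
    tr (k := K) a (MvPolynomial.map (algebraMap k K) h) = tr a h := by
  induction h using MvPolynomial.induction_on with
  | C c =>
    rw [map_C, tr_C, tr_C]
    rfl
  | add p q hp hq => rw [map_add, map_add, map_add, hp, hq]
  | mul_X p i hp => rw [map_mul, map_mul, map_mul, hp, map_X, tr_X, tr_X]

theorem tr_monomial (a : σ → K) (α : σ →₀ ℕ) (c : K) :
    tr (k := K) a (monomial α c) = C c * tr a (monomial α (1 : k)) := by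
  have h1 : monomial α c = C c * monomial α (1 : K) := by rw [C_mul_monomial, mul_one]
  have h2 : (monomial α (1 : K)) = MvPolynomial.map (algebraMap k K) (monomial α (1 : k)) := by
    rw [MvPolynomial.map_monomial, (algebraMap k K).map_one]
  rw [h1, map_mul, tr_C, h2, tr_map]
  rfl

theorem tr_tr_neg (a : σ → K) (h : MvPolynomial σ K) : tr (k := K) a (tr (k := K) (-a) h) = h := by
  induction h using MvPolynomial.induction_on with
  | C c => rw [tr_C, tr_C]; rfl
  | add p q hp hq => rw [map_add, map_add, hp, hq]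
  | mul_X p i hp =>
    rw [map_mul, map_mul, hp, tr_X, map_add, tr_C, tr_X]
    congr 1
    simp

theorem totalDegree_tr_le (a : σ → K) (h : MvPolynomial σ k) : (tr a h).totalDegree ≤ h.totalDegree := by
  conv_lhs => rw [h.as_sum]
  rw [map_sum]
  refine (totalDegree_finsetSum _ _).trans (Finset.sup_le fun s hs => ?_)
  rw [tr, aeval_monomial]
  refine (totalDegree_mul _ _).trans ?_
  have h1 : (algebraMap k (MvPolynomial σ K) (coeff s h)).totalDegree = 0 := by
    change (C (algebraMap k K (coeff s h)) : MvPolynomial σ K).totalDegree = 0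
    exact totalDegree_C _
  rw [h1, zero_add]
  refine le_trans ?_ (le_totalDegree hs)
  rw [Finsupp.prod, Finsupp.sum]
  refine (totalDegree_finsetProd _ _).trans (Finset.sum_le_sum fun i _ => ?_)
  refine (totalDegree_pow _ _).trans ?_
  have h2 : (C (a i) + X i : MvPolynomial σ K).totalDegree ≤ 1 := by
    refine (totalDegree_add _ _).trans (max_le ?_ ?_)
    · rw [totalDegree_C]; exact Nat.zero_le _
    · rw [totalDegree_X]
  calc s i * (C (a i) + X i : MvPolynomial σ K).totalDegree ≤ s i * 1 := Nat.mul_le_mul_left _ h2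
    _ = s i := mul_one _

/-- Exponents of degree at most `r`. -/
abbrev E (σ : Type) (r : ℕ) : Type := {α : σ →₀ ℕ // α.degree ≤ r}

/-- Exponents of degree between `2` and `r`. -/
abbrev J (σ : Type) (r : ℕ) : Type := {α : σ →₀ ℕ // 2 ≤ α.degree ∧ α.degree ≤ r}

instance [Finite σ] (r : ℕ) : Finite (E σ r) := (Finsupp.finite_of_degree_le (σ := σ) r).to_subtype

instance [Finite σ] (r : ℕ) : Finite (J σ r) :=
  ((Finsupp.finite_of_degree_le (σ := σ) r).subset fun _ hα => hα.2).to_subtype

noncomputable instance [Finite σ] (r : ℕ) : Fintype (E σ r) := Fintype.ofFinite _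

noncomputable instance [Finite σ] (r : ℕ) : Fintype (J σ r) := Fintype.ofFinite _

/-- A polynomial agrees with its truncation modulo `m ^ (r + 1)`. -/
theorem sub_trunc_mem [Finite σ] (r : ℕ) (P : MvPolynomial σ K) :
    P - ∑ α : E σ r, monomial α.1 (coeff α.1 P) ∈ idealOfVars σ K ^ (r + 1) := by
  classical
  rw [mem_pow_idealOfVars_iff']
  intro x hx
  rw [coeff_sub, coeff_sum]
  simp only [coeff_monomial]
  rw [Finset.sum_eq_single ⟨x, Nat.lt_succ_iff.mp hx⟩]
  · rw [if_pos rfl, sub_self]
  · rintro ⟨y, hy⟩ _ hne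
    rw [if_neg]
    intro h
    exact hne (Subtype.ext h)
  · intro h
    exact absurd (Finset.mem_univ _) h

theorem eq_sum_of_totalDegree_le [Finite σ] (r : ℕ) (P : MvPolynomial σ K) (h : P.totalDegree ≤ r) :
    P = ∑ α : E σ r, monomial α.1 (coeff α.1 P) := by
  classical
  ext x
  rw [coeff_sum]
  simp only [coeff_monomial]
  by_cases hx : x.degree ≤ r
  · rw [Finset.sum_eq_single ⟨x, hx⟩]
    · rw [if_pos rfl]
    · rintro ⟨y, hy⟩ _ hne
      rw [if_neg]
      intro h
      exact hne (Subtype.ext h)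
    · intro h
      exact absurd (Finset.mem_univ _) h
  · rw [Finset.sum_eq_zero, coeff_eq_zero_of_totalDegree_lt]
    · have h1 : x.degree = ∑ i ∈ x.support, x i := rfl
      rw [← h1]
      omega
    · rintro ⟨y, hy⟩ _
      rw [if_neg]
      rintro rfl
      exact hx hy

theorem totalDegree_trunc_le [Finite σ] (r : ℕ) (c : E σ r → K) :
    (∑ α : E σ r, monomial α.1 (c α)).totalDegree ≤ r :=
  (totalDegree_finsetSum _ _).trans (Finset.sup_le fun α _ => (totalDegree_monomial_le _ _).trans α.2)

/-- Units modulo `m ^ n`. -/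
theorem exists_mul_sub_one_mem (n : ℕ) (u : MvPolynomial σ K) (hu : constantCoeff u ≠ 0) :
    ∃ v : MvPolynomial σ K, u * v - 1 ∈ idealOfVars σ K ^ n := by
  let q := Ideal.Quotient.mk (idealOfVars σ K ^ n)
  have h1 : IsNilpotent (q (u - C (constantCoeff u))) := by
    refine ⟨n, ?_⟩
    rw [← map_pow]
    refine Ideal.Quotient.eq_zero_iff_mem.mpr (Ideal.pow_mem_pow ?_ n)
    have h2 : u - C (constantCoeff u) ∈ idealOfVars σ K ^ 1 := by
      rw [mem_pow_idealOfVars_iff']
      intro x hx
      rw [Nat.lt_one_iff, Finsupp.degree_eq_zero_iff] at hx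
      subst hx
      rw [coeff_sub, constantCoeff_eq, coeff_zero_C, sub_self]
    rwa [pow_one] at h2
  have h2 : IsUnit (q (C (constantCoeff u))) := (hu.isUnit.map C).map q
  have h3 : IsUnit (q u) := by
    have h4 : q u = q (u - C (constantCoeff u)) + q (C (constantCoeff u)) := by
      rw [← map_add, sub_add_cancel]
    rw [h4]
    exact h1.isUnit_add_right_of_commute h2 (Commute.all _ _)
  obtain ⟨w, hw⟩ := h3.exists_right_inv
  obtain ⟨v, rfl⟩ := Ideal.Quotient.mk_surjective w
  refine ⟨v, ?_⟩
  rw [← Ideal.Quotient.eq_zero_iff_mem, map_sub, map_mul, map_one, sub_eq_zero]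
  exact hw

/-- The `r`-jets at `a` of the multiples of `w` are arbitrary if `w a ≠ 0`. -/
theorem jet_surj [Finite σ] (r : ℕ) (w : MvPolynomial σ k) (a : σ → K) (ha : aeval a w ≠ 0)
    (c : E σ r → K) : ∃ b : E σ r → K, ∀ β : E σ r,
      ∑ α, b α * coeff β.1 (tr a (w * monomial α.1 (1 : k))) = c β := by
  classical
  let P : MvPolynomial σ K := ∑ β : E σ r, monomial β.1 (c β)
  have hP : ∀ β : E σ r, coeff β.1 P = c β := by
    intro β
    simp only [P, coeff_sum, coeff_monomial]
    rw [Finset.sum_eq_single β]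
    · rw [if_pos rfl]
    · intro y _ hne
      rw [if_neg]
      intro h
      exact hne (Subtype.ext h)
    · intro h
      exact absurd (Finset.mem_univ _) h
  have hu : constantCoeff (tr a w) ≠ 0 := by
    rw [constantCoeff_eq, ← aeval_hs]
    have h1 : hs 0 w = w := by
      rw [hs]
      have h3 : ∀ h : MvPolynomial σ k, constantCoeff (tay h) = h := by
        intro h
        induction h using MvPolynomial.induction_on with
        | C c =>
          rw [tay, aeval_C]
          exact constantCoeff_C _ _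
        | add p q hp hq => rw [map_add, map_add, hp, hq]
        | mul_X p i hp =>
          rw [map_mul, map_mul, hp, tay, aeval_X, map_add, constantCoeff_C, constantCoeff_X, add_zero]
      exact h3 w
    rw [h1]
    exact ha
  obtain ⟨v, hv⟩ := exists_mul_sub_one_mem (r + 1) (tr a w) hu
  set q' : MvPolynomial σ K := ∑ β : E σ r, monomial β.1 (coeff β.1 (v * P)) with hq'
  have h1 : v * P - q' ∈ idealOfVars σ K ^ (r + 1) := sub_trunc_mem r _
  set q : MvPolynomial σ K := tr (k := K) (-a) q' with hq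
  have h2 : q.totalDegree ≤ r := (totalDegree_tr_le _ _).trans (totalDegree_trunc_le r _)
  have h3 := eq_sum_of_totalDegree_le r q h2
  refine ⟨fun α => coeff α.1 q, fun β => ?_⟩
  have h4 : ∑ α : E σ r, coeff α.1 q * coeff β.1 (tr a (w * monomial α.1 (1 : k))) =
      coeff β.1 (tr a w * q') := by
    have h5 : q' = ∑ α : E σ r, C (coeff α.1 q) * tr a (monomial α.1 (1 : k)) := by
      rw [← tr_tr_neg a q', ← hq]
      conv_lhs => rw [h3]
      rw [map_sum]
      exact Finset.sum_congr rfl fun α _ => tr_monomial a α.1 _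
    rw [h5, Finset.mul_sum, coeff_sum]
    refine Finset.sum_congr rfl fun α _ => ?_
    rw [map_mul, mul_left_comm, coeff_C_mul]
  rw [h4]
  have h5 : tr a w * q' - P ∈ idealOfVars σ K ^ (r + 1) := by
    have h6 : tr a w * q' - P = (tr a w * v - 1) * P - tr a w * (v * P - q') := by ring
    rw [h6]
    exact sub_mem (Ideal.mul_mem_right _ _ hv) (Ideal.mul_mem_left _ _ h1)
  rw [mem_pow_idealOfVars_iff'] at h5
  have h6 := h5 β.1 (Nat.lt_succ_of_le β.2)
  rw [coeff_sub, sub_eq_zero] at h6
  rw [h6, hP]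

end Basic

section Generic

variable {k : Type u} [Field k] {σ : Type} [Fintype σ]

/-- The exponent attached to an index of the jet: `single i 1` or `β`. -/
noncomputable def ex (r : ℕ) : σ ⊕ J σ r → (σ →₀ ℕ) := Sum.elim (fun i => Finsupp.single i 1) Subtype.val

theorem ex_degree (r : ℕ) (hr : 1 ≤ r) (m : σ ⊕ J σ r) : (ex r m).degree ≤ r := by
  rcases m with i | β
  · change (Finsupp.single i 1).degree ≤ r
    rw [Finsupp.degree_single]
    exact hr
  · exact β.2.2

theorem ex_injective (r : ℕ) : Function.Injective (ex (σ := σ) r) := by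
  classical
  rintro (i | β) (j | γ) h
  · have h1 : Finsupp.single i 1 = Finsupp.single j 1 := h
    rw [Finsupp.single_left_inj one_ne_zero] at h1
    rw [h1]
  · have h1 : Finsupp.single i 1 = γ.1 := h
    have h2 := γ.2.1
    rw [← h1, Finsupp.degree_single] at h2
    omega
  · have h1 : β.1 = Finsupp.single j 1 := h
    have h2 := β.2.1
    rw [h1, Finsupp.degree_single] at h2
    omega
  · have h1 : β.1 = γ.1 := h
    rw [Subtype.ext h1]

/-- The family of polynomials `w t * X ^ α`. -/
noncomputable def fam {T : Type} (r : ℕ) (w : T → MvPolynomial σ k) (i : T × E σ r) : MvPolynomial σ k :=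
  w i.1 * monomial i.2.1 1

/-- The jet coordinates of the universal member of the family. -/
noncomputable def univ {T : Type} [Fintype T] (r : ℕ) (f₀ : MvPolynomial σ k) (w : T → MvPolynomial σ k) (m : σ ⊕ J σ r) :
    MvPolynomial ((T × E σ r) ⊕ (σ ⊕ Unit)) k :=
  rename (Sum.inr ∘ Sum.inl) (hs (ex r m) f₀) +
    ∑ i : T × E σ r, rename (Sum.inr ∘ Sum.inl) (hs (ex r m) (fam r w i)) * X (Sum.inl i)

theorem aeval_univ {K : Type v} [Field K] [Algebra k K] {T : Type} [Fintype T] (r : ℕ) (f₀ : MvPolynomial σ k)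
    (w : T → MvPolynomial σ k) (m : σ ⊕ J σ r) (y : T × E σ r → K) (p : σ ⊕ Unit → K) :
    aeval (Sum.elim y p) (univ r f₀ w m) = coeff (ex r m) (tr (p ∘ Sum.inl) f₀) +
      ∑ i : T × E σ r, coeff (ex r m) (tr (p ∘ Sum.inl) (fam r w i)) * y i := by
  have h1 : ∀ h : MvPolynomial σ k, aeval (Sum.elim y p) (rename (Sum.inr ∘ Sum.inl) h) = aeval (p ∘ Sum.inl) h := by
    intro h
    rw [aeval_rename]
    rfl
  rw [univ, map_add, map_sum, h1, aeval_hs]
  congr 1
  refine Finset.sum_congr rfl fun i _ => ?_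
  rw [map_mul, h1, aeval_hs, aeval_X, Sum.elim_inl]

/-- **Non-dominance of the bad incidence variety.** -/
theorem exists_param {T : Type} [Fintype T] (r : ℕ) (hr : 1 ≤ r) (f₀ : MvPolynomial σ k) (w : T → MvPolynomial σ k)
    (t : T) (D : MvPolynomial (J σ r) k) (hD : D ≠ 0) :
    ∃ F : MvPolynomial (T × E σ r) k, F ≠ 0 ∧ ∀ (b : T × E σ r → k) (a : σ → k), eval a (w t) ≠ 0 →
      (∀ i, coeff (Finsupp.single i 1) (tr a (f₀ + ∑ i, C (b i) * fam r w i)) = 0) →
      aeval (fun β : J σ r => coeff β.1 (tr a (f₀ + ∑ i, C (b i) * fam r w i))) D = 0 → eval b F = 0 := by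
  classical
  let S : Set (MvPolynomial ((T × E σ r) ⊕ (σ ⊕ Unit)) k) :=
    Set.range (fun i : σ => univ r f₀ w (Sum.inl i)) ∪
      {aeval (fun β : J σ r => univ r f₀ w (Sum.inr β)) D,
        rename (Sum.inr ∘ Sum.inl) (w t) * X (Sum.inr (Sum.inr ())) - 1}
  have key : ∀ (K : Type u) [Field K] [Algebra k K] (y : T × E σ r → K) (p : σ ⊕ Unit → K),
      (∀ P ∈ S, aeval (Sum.elim y p) P = 0) ↔ ((∀ i, aeval (Sum.elim y p) (univ r f₀ w (Sum.inl i)) = 0) ∧
        aeval (fun β : J σ r => aeval (Sum.elim y p) (univ r f₀ w (Sum.inr β))) D = 0 ∧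
        aeval (p ∘ Sum.inl) (w t) * p (Sum.inr ()) = 1) := by
    intro K _ _ y p
    have h1 : ∀ h : MvPolynomial σ k, aeval (Sum.elim y p) (rename (Sum.inr ∘ Sum.inl) h) =
        aeval (p ∘ Sum.inl) h := by
      intro h
      rw [aeval_rename]
      rfl
    have h2 : aeval (Sum.elim y p) (aeval (fun β : J σ r => univ r f₀ w (Sum.inr β)) D) =
        aeval (fun β : J σ r => aeval (Sum.elim y p) (univ r f₀ w (Sum.inr β))) D := by
      rw [← AlgHom.comp_apply, comp_aeval]
    have h3 : aeval (Sum.elim y p) (rename (Sum.inr ∘ Sum.inl) (w t) * X (Sum.inr (Sum.inr ())) - 1) =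
        aeval (p ∘ Sum.inl) (w t) * p (Sum.inr ()) - 1 := by
      rw [map_sub, map_mul, h1, aeval_X, map_one]
      rfl
    constructor
    · intro h
      refine ⟨fun i => h _ (Or.inl ⟨i, rfl⟩), ?_, ?_⟩
      · rw [← h2]
        exact h _ (Or.inr (Or.inl rfl))
      · rw [← sub_eq_zero, ← h3]
        exact h _ (Or.inr (Or.inr rfl))
    · rintro ⟨ha, hb, hc⟩ P (⟨i, rfl⟩ | rfl | rfl)
      · exact ha i
      · rw [h2]
        exact hb
      · rw [h3, hc, sub_self]
  obtain ⟨F, hF, hF'⟩ := Groth.Agent.Lefpen.H702.Generic.exists_polynomial_of_system S (by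
    intro K _ _ y p hSP
    obtain ⟨h1, h2, h3⟩ := (key K y p).mp hSP
    set a : σ → K := p ∘ Sum.inl with ha
    have hwa : aeval a (w t) ≠ 0 := fun h => by rw [h, zero_mul] at h3; exact zero_ne_one h3
    simp only [aeval_univ] at h1 h2
    have hmem : ∀ h : MvPolynomial σ k, aeval a h ∈ cl k (Set.range a) := by
      intro h
      have h4 : aeval a h ∈ (clField k (Set.range a)).toSubalgebra := by
        refine (Algebra.adjoin_le (S := (clField k (Set.range a)).toSubalgebra) ?_ :
          Algebra.adjoin k (Set.range a) ≤ _) ?_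
        · rintro _ ⟨i, rfl⟩
          exact (mem_clField k).2 (subset_cl k _ ⟨i, rfl⟩)
        · rw [Algebra.adjoin_range_eq_range_aeval]
          exact ⟨h, rfl⟩
      exact (mem_clField k).1 h4
    refine GenPtRk.not_algebraicIndependent k a y (Matrix.of fun m i => coeff (ex r m) (tr a (fam r w i))) ?_ ?_
      (fun m => coeff (ex r m) (tr a f₀)) ?_ h1 D hD h2
    · intro m i
      rw [Matrix.of_apply, ← aeval_hs]
      exact hmem _
    · intro c
      -- the jet `c` is realised by a multiple of `w t`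
      obtain ⟨b, hb⟩ := jet_surj r (w t) a hwa
        (fun β => if h : ∃ m, ex r m = β.1 then c h.choose else 0)
      refine ⟨fun i => if i.1 = t then b i.2 else 0, ?_⟩
      funext m
      have h4 := hb ⟨ex r m, ex_degree r hr m⟩
      have h5 : ∃ m', ex r m' = ex r m := ⟨m, rfl⟩
      simp only [h5, dif_pos] at h4
      have h6 : h5.choose = m := ex_injective r h5.choose_spec
      rw [h6] at h4
      rw [← h4]
      change ∑ i : T × E σ r, coeff (ex r m) (tr a (fam r w i)) * (if i.1 = t then b i.2 else 0) = _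
      rw [Fintype.sum_prod_type, Finset.sum_eq_single t]
      · refine Finset.sum_congr rfl fun α _ => ?_
        rw [if_pos rfl, mul_comm]
        rfl
      · intro t' _ hne
        refine Finset.sum_eq_zero fun α _ => ?_
        rw [if_neg hne, mul_zero]
      · intro h
        exact absurd (Finset.mem_univ _) h
    · intro m
      rw [← aeval_hs]
      exact hmem _)
  refine ⟨F, hF, fun b a hwa h1 h2 => ?_⟩
  have h4 := hF' b (Sum.elim a (fun _ => (eval a (w t))⁻¹)) ((key k b _).mpr ?_)
  · exact h4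
  have h5 : (Sum.elim a (fun _ => (eval a (w t))⁻¹) : σ ⊕ Unit → k) ∘ Sum.inl = a := rfl
  have h6 : ∀ m, coeff (ex r m) (tr a (f₀ + ∑ i, C (b i) * fam r w i)) =
      coeff (ex r m) (tr a f₀) + ∑ i : T × E σ r, coeff (ex r m) (tr a (fam r w i)) * b i := by
    intro m
    rw [map_add, map_sum, coeff_add, coeff_sum]
    congr 1
    refine Finset.sum_congr rfl fun i _ => ?_
    rw [map_mul, tr_C, coeff_C_mul, mul_comm]
    rfl
  simp only [aeval_univ, h5]
  refine ⟨fun i => ?_, ?_, ?_⟩
  · rw [← h6]
    exact h1 i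
  · have h7 : (fun β : J σ r => coeff (ex r (Sum.inr β)) (tr a f₀) +
        ∑ i : T × E σ r, coeff (ex r (Sum.inr β)) (tr a (fam r w i)) * b i) =
        fun β : J σ r => coeff β.1 (tr a (f₀ + ∑ i, C (b i) * fam r w i)) := by
      funext β
      rw [← h6]
      rfl
    rw [h7]
    exact h2
  · change aeval a (w t) * (eval a (w t))⁻¹ = 1
    exact mul_inv_cancel₀ hwa

/-- **Generic jets at the critical points.** -/
theorem exists_generic [Infinite k] {T : Type} [Fintype T] (r : ℕ) (hr : 1 ≤ r) (f₀ : MvPolynomial σ k)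
    (w : T → MvPolynomial σ k) (D : MvPolynomial (J σ r) k) (hD : D ≠ 0) :
    ∃ q : T → MvPolynomial σ k, (∀ t, (q t).totalDegree ≤ r) ∧
      ∀ a : σ → k, (∃ t, eval a (w t) ≠ 0) →
        (∀ i, coeff (Finsupp.single i 1) (tr a (f₀ + ∑ t, w t * q t)) = 0) →
        aeval (fun β : J σ r => coeff β.1 (tr a (f₀ + ∑ t, w t * q t))) D ≠ 0 := by
  classical
  choose F hF hF' using fun t => exists_param r hr f₀ w t D hD
  have h1 : (∏ t, F t) ≠ 0 := Finset.prod_ne_zero_iff.mpr fun t _ => hF t
  obtain ⟨b, hb⟩ : ∃ b : T × E σ r → k, eval b (∏ t, F t) ≠ 0 := by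
    by_contra! hcon
    exact h1 (MvPolynomial.funext fun x => by rw [hcon x, map_zero])
  rw [map_prod, Finset.prod_ne_zero_iff] at hb
  let q : T → MvPolynomial σ k := fun t => ∑ α : E σ r, monomial α.1 (b (t, α))
  have hq : ∑ i : T × E σ r, C (b i) * fam r w i = ∑ t, w t * q t := by
    rw [Fintype.sum_prod_type]
    refine Finset.sum_congr rfl fun t _ => ?_
    rw [Finset.mul_sum]
    refine Finset.sum_congr rfl fun α _ => ?_
    rw [fam, mul_left_comm, C_mul_monomial, mul_one]
  refine ⟨q, fun t => totalDegree_trunc_le r _, ?_⟩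
  rintro a ⟨t, ht⟩ h2 h3
  rw [← hq] at h2 h3
  exact hb t (Finset.mem_univ _) (hF' t b a ht h2 h3)

end Generic

end Groth.Agent.Vancyc.H261.GenPtJet
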