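import Groth.Agent.Vancyc.H261.GenPtStep
import Groth.Agent.Vancyc.H261.GenPtJet
import Groth.Agent.Vancyc.H686.NormalFormOdd

/-!
# Polynomial maps étale at the origin and quadratic parts
-/

set_option autoImplicit false
set_option linter.unusedSectionVars false

universe u v

open MvPolynomial

namespace Groth.Agent.Vancyc.H261.GenPtLoc

open GenPtStep GenPtJet
open Groth.Agent.Vancyc.H686.NormalForm (formPoly linHom linHom_X linHom_C linHom_formPoly formPoly_isAlt formPoly_sub
  formPoly_hyp)

section Loc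

variable {k : Type u} [Field k] {σ τ ρ : Type} [Fintype σ] [Fintype τ] [Fintype ρ] [DecidableEq σ] [DecidableEq τ]
  [DecidableEq ρ]

/-- The Jacobian matrix at the origin. -/
noncomputable def jac (Φ : MvPolynomial σ k →ₐ[k] MvPolynomial τ k) : Matrix σ τ k :=
  Matrix.of fun i j => constantCoeff (pderiv j (Φ (X i)))

/-- The map is étale at the origin, which goes to `a`. -/
def Loc (a : σ → k) (Φ : MvPolynomial σ k →ₐ[k] MvPolynomial τ k) : Prop :=
  (∀ i, constantCoeff (Φ (X i)) = a i) ∧ ∃ B : Matrix τ σ k, jac Φ * B = 1 ∧ B * jac Φ = 1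

theorem constantCoeff_apply (Ψ : MvPolynomial τ k →ₐ[k] MvPolynomial ρ k) (hΨ : ∀ j, constantCoeff (Ψ (X j)) = 0)
    (p : MvPolynomial τ k) : constantCoeff (Ψ p) = constantCoeff p := by
  induction p using MvPolynomial.induction_on with
  | C c =>
    have : Ψ (C c) = C c := Ψ.commutes c
    rw [this, constantCoeff_C, constantCoeff_C]
  | add p q hp hq => rw [map_add, map_add, map_add, hp, hq]
  | mul_X p i hp => rw [map_mul, map_mul, map_mul, hΨ, constantCoeff_X, mul_zero, mul_zero]

theorem constantCoeff_pderiv_apply (Ψ : MvPolynomial τ k →ₐ[k] MvPolynomial ρ k)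
    (hΨ : ∀ j, constantCoeff (Ψ (X j)) = 0) (l : ρ) (p : MvPolynomial τ k) :
    constantCoeff (pderiv l (Ψ p)) = ∑ j, constantCoeff (pderiv j p) * constantCoeff (pderiv l (Ψ (X j))) := by
  induction p using MvPolynomial.induction_on with
  | C c =>
    have : Ψ (C c) = C c := Ψ.commutes c
    rw [this, pderiv_C, map_zero]
    symm
    refine Finset.sum_eq_zero fun j _ => ?_
    rw [pderiv_C, map_zero, zero_mul]
  | add p q hp hq =>
    simp only [map_add, hp, hq, add_mul, Finset.sum_add_distrib]
  | mul_X p i hp =>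
    rw [map_mul, pderiv_mul, map_add, map_mul, map_mul, hΨ, mul_zero, zero_add, constantCoeff_apply Ψ hΨ]
    rw [Finset.sum_eq_single i]
    · rw [pderiv_mul, map_add, map_mul, map_mul, constantCoeff_X, mul_zero, zero_add, pderiv_X_self, map_one, mul_one]
    · intro j _ hj
      rw [pderiv_mul, map_add, map_mul, map_mul, constantCoeff_X, mul_zero, zero_add, pderiv_X_of_ne hj.symm, map_zero,
        mul_zero, zero_mul]
    · intro h
      exact absurd (Finset.mem_univ _) h

theorem jac_comp (Φ : MvPolynomial σ k →ₐ[k] MvPolynomial τ k) (Ψ : MvPolynomial τ k →ₐ[k] MvPolynomial ρ k)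
    (hΨ : ∀ j, constantCoeff (Ψ (X j)) = 0) : jac (Ψ.comp Φ) = jac Φ * jac Ψ := by
  ext i l
  rw [Matrix.mul_apply]
  exact constantCoeff_pderiv_apply Ψ hΨ l (Φ (X i))

theorem Loc.comp {a : σ → k} {Φ : MvPolynomial σ k →ₐ[k] MvPolynomial τ k}
    {Ψ : MvPolynomial τ k →ₐ[k] MvPolynomial ρ k} (hΦ : Loc a Φ) (hΨ : Loc 0 Ψ) : Loc a (Ψ.comp Φ) := by
  obtain ⟨h1, B, hB, hB'⟩ := hΦ
  obtain ⟨h2, B', hB1, hB1'⟩ := hΨ
  refine ⟨fun i => ?_, B' * B, ?_, ?_⟩
  · rw [AlgHom.comp_apply, constantCoeff_apply Ψ h2, h1]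
  · rw [jac_comp Φ Ψ h2, Matrix.mul_assoc, ← Matrix.mul_assoc (jac Ψ), hB1, Matrix.one_mul, hB]
  · rw [jac_comp Φ Ψ h2, Matrix.mul_assoc, ← Matrix.mul_assoc B, hB', Matrix.one_mul, hB1']

theorem loc_tr (a : σ → k) : Loc a (tr (k := k) a) := by
  have h1 : jac (tr (k := k) a) = 1 := by
    ext i j
    rw [jac, Matrix.of_apply, tr_X, map_add, pderiv_C, zero_add, pderiv_X, Matrix.one_apply]
    by_cases h : i = j
    · subst h
      simp
    · rw [if_neg h, Pi.single_eq_of_ne h, map_zero]
  refine ⟨fun i => ?_, 1, ?_, ?_⟩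
  · rw [tr_X, map_add, constantCoeff_C, constantCoeff_X, add_zero]
  · rw [h1, Matrix.one_mul]
  · rw [h1, Matrix.one_mul]

theorem constantCoeff_pderiv_eq (j : τ) (p : MvPolynomial τ k) :
    constantCoeff (pderiv j p) = coeff (Finsupp.single j 1) p := by
  rw [constantCoeff_eq, coeff_pderiv]
  simp

theorem loc_of_sub_mem (Φ : MvPolynomial τ k →ₐ[k] MvPolynomial τ k)
    (h : ∀ i, Φ (X i) - X i ∈ idealOfVars τ k ^ 2) : Loc 0 Φ := by
  have h1 : jac Φ = 1 := by
    ext i j
    have h2 := h i
    rw [mem_pow_idealOfVars_iff'] at h2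
    have h3 := h2 (Finsupp.single j 1) (by rw [Finsupp.degree_single]; norm_num)
    rw [coeff_sub, sub_eq_zero, ← constantCoeff_pderiv_eq, ← constantCoeff_pderiv_eq] at h3
    rw [jac, Matrix.of_apply, h3, Matrix.one_apply]
    by_cases h : i = j
    · subst h
      simp
    · rw [if_neg h, pderiv_X_of_ne h, map_zero]
  refine ⟨fun i => ?_, 1, ?_, ?_⟩
  · have h2 := h i
    rw [mem_pow_idealOfVars_iff'] at h2
    have h3 := h2 0 (by simp)
    rw [coeff_sub, sub_eq_zero] at h3
    rw [constantCoeff_eq, h3, ← constantCoeff_eq, constantCoeff_X]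
    rfl
  · rw [h1, Matrix.one_mul]
  · rw [h1, Matrix.one_mul]

theorem jac_linHom (g : Matrix σ τ k) : jac (linHom g) = g := by
  ext i j
  rw [jac, Matrix.of_apply, linHom_X, map_sum, map_sum, Finset.sum_eq_single j]
  · rw [pderiv_C_mul, pderiv_X_self, mul_one, constantCoeff_C]
  · intro l _ hl
    rw [pderiv_C_mul, pderiv_X_of_ne hl, mul_zero, map_zero]
  · intro h
    exact absurd (Finset.mem_univ _) h

theorem loc_linHom (g : Matrix σ τ k) (g' : Matrix τ σ k) (h1 : g * g' = 1) (h2 : g' * g = 1) : Loc 0 (linHom g) := by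
  refine ⟨fun i => ?_, g', ?_, ?_⟩
  · rw [linHom_X, map_sum]
    refine Finset.sum_eq_zero fun j _ => ?_
    rw [map_mul, constantCoeff_X, mul_zero]
  · rw [jac_linHom, h1]
  · rw [jac_linHom, h2]

theorem loc_rename (e : τ ≃ ρ) : Loc 0 (rename e : MvPolynomial τ k →ₐ[k] MvPolynomial ρ k) := by
  have h1 : jac (rename e : MvPolynomial τ k →ₐ[k] MvPolynomial ρ k) = (1 : Matrix τ τ k).submatrix id e.symm := by
    ext i j
    rw [jac, Matrix.of_apply, rename_X, Matrix.submatrix_apply, Matrix.one_apply]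
    by_cases h : e i = j
    · subst h
      simp
    · rw [pderiv_X_of_ne h, map_zero, if_neg]
      rintro h2
      apply h
      simp only [id_eq] at h2
      rw [h2, Equiv.apply_symm_apply]
  refine ⟨fun i => ?_, (1 : Matrix τ τ k).submatrix e.symm id, ?_, ?_⟩
  · rw [rename_X, constantCoeff_X]
    rfl
  · rw [h1, Matrix.submatrix_mul_equiv, Matrix.one_mul, Matrix.submatrix_id_id]
  · rw [h1, ← Matrix.submatrix_mul _ _ e.symm id e.symm Function.bijective_id, Matrix.one_mul,
      Matrix.submatrix_one_equiv]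

/-- Maps preserving the origin preserve the powers of the ideal of the origin. -/
theorem map_mem_pow (Φ : MvPolynomial σ k →ₐ[k] MvPolynomial τ k) (hΦ : ∀ i, constantCoeff (Φ (X i)) = 0) (e : ℕ)
    (p : MvPolynomial σ k) (hp : p ∈ idealOfVars σ k ^ e) : Φ p ∈ idealOfVars τ k ^ e := by
  have h1 : (idealOfVars σ k).map (Φ : MvPolynomial σ k →+* MvPolynomial τ k) ≤ idealOfVars τ k := by
    rw [Ideal.map_le_iff_le_comap]
    refine Ideal.span_le.mpr ?_
    rintro _ ⟨i, rfl⟩
    have h2 : Φ (X i) ∈ idealOfVars τ k ^ 1 := by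
      rw [mem_pow_idealOfVars_iff']
      intro x hx
      rw [Nat.lt_one_iff, Finsupp.degree_eq_zero_iff] at hx
      subst hx
      exact hΦ i
    rw [pow_one] at h2
    exact h2
  have h2 := Ideal.mem_map_of_mem (Φ : MvPolynomial σ k →+* MvPolynomial τ k) hp
  rw [Ideal.map_pow] at h2
  exact Ideal.pow_right_mono h1 e h2

end Loc

section Quad

variable {σ : Type} [Fintype σ] [LinearOrder σ]

/-- The upper triangular matrix attached to a table of coefficients. -/
noncomputable def Amat {R : Type v} [CommRing R] (c : (σ →₀ ℕ) → R) : Matrix σ σ R :=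
  Matrix.of fun i j => if i ≤ j then c (Finsupp.single i 1 + Finsupp.single j 1) else 0

theorem map_Amat {R : Type u} {S : Type v} [CommRing R] [CommRing S] (f : R →+* S) (c : (σ →₀ ℕ) → R) :
    (Amat c).map f = Amat fun β => f (c β) := by
  ext i j
  simp only [Amat, Matrix.map_apply, Matrix.of_apply]
  split_ifs
  · rfl
  · exact map_zero f

variable {k : Type u} [Field k]

theorem coeff_formPoly (A : Matrix σ σ k) (β : σ →₀ ℕ) :
    coeff β (formPoly A) = ∑ i, ∑ j, if Finsupp.single i 1 + Finsupp.single j 1 = β then A i j else 0 := by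
  rw [formPoly, coeff_sum]
  refine Finset.sum_congr rfl fun i _ => ?_
  rw [coeff_sum]
  refine Finset.sum_congr rfl fun j _ => ?_
  have h1 : C (A i j) * X i * X j = monomial (Finsupp.single i 1 + Finsupp.single j 1) (A i j) := by
    rw [X, X, C_mul_monomial, monomial_mul, mul_one, mul_one]
  rw [h1, coeff_monomial]

theorem single_add_single_eq {i j i' j' : σ} (h : i ≤ j) (h' : i' ≤ j') (he : Finsupp.single i 1 + Finsupp.single j 1 =
    Finsupp.single i' 1 + (Finsupp.single j' 1 : σ →₀ ℕ)) : i = i' ∧ j = j' := by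
  rw [Finsupp.single_add_single_eq_single_add_single one_ne_zero one_ne_zero] at he
  rcases he with ⟨h1, h2⟩ | ⟨-, h1, h2⟩ | ⟨h1, -⟩
  · exact ⟨h1, h2⟩
  · subst h1 h2
    exact ⟨le_antisymm h h', le_antisymm h' h⟩
  · exact absurd h1 (by norm_num)

theorem exists_of_degree_eq_one {β : σ →₀ ℕ} (h : β.degree = 1) : ∃ i, β = Finsupp.single i 1 :=
  (Finsupp.sum_eq_one_iff β).mp h

/-- The quadratic part. -/
theorem sub_mem_three (G : MvPolynomial σ k) (h : ∀ i, coeff (Finsupp.single i 1) G = 0) :
    G - C (constantCoeff G) - formPoly (Amat fun β => coeff β G) ∈ idealOfVars σ k ^ 3 := by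
  classical
  rw [mem_pow_idealOfVars_iff']
  intro β hβ
  rw [coeff_sub, coeff_sub, coeff_formPoly]
  obtain h0 | h1 | h2 : β.degree = 0 ∨ β.degree = 1 ∨ β.degree = 2 := by omega
  · rw [Finsupp.degree_eq_zero_iff] at h0
    subst h0
    rw [coeff_zero_C, constantCoeff_eq, sub_self, zero_sub, neg_eq_zero]
    refine Finset.sum_eq_zero fun i _ => Finset.sum_eq_zero fun j _ => if_neg fun hc => ?_
    have := congrArg Finsupp.degree hc
    rw [map_add, Finsupp.degree_single, Finsupp.degree_single, map_zero] at this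
    omega
  · obtain ⟨i, rfl⟩ : ∃ i, β = Finsupp.single i 1 := exists_of_degree_eq_one h1
    rw [h, coeff_C, if_neg, sub_self, zero_sub, neg_eq_zero]
    · refine Finset.sum_eq_zero fun i' _ => Finset.sum_eq_zero fun j _ => if_neg fun hc => ?_
      have := congrArg Finsupp.degree hc
      rw [map_add, Finsupp.degree_single, Finsupp.degree_single, Finsupp.degree_single] at this
      omega
    · intro hc
      have := congrArg Finsupp.degree hc
      rw [map_zero, Finsupp.degree_single] at this
      omega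
  · obtain ⟨i, j, hij, rfl⟩ : ∃ i j : σ, i ≤ j ∧ β = Finsupp.single i 1 + Finsupp.single j 1 := by
      have h3 : β ≠ 0 := fun h => by rw [h, map_zero] at h2; omega
      obtain ⟨i, hi⟩ : ∃ i, β i ≠ 0 := by
        by_contra! hcon
        exact h3 (Finsupp.ext hcon)
      have h4 : Finsupp.single i 1 ≤ β := by
        intro j
        rw [Finsupp.single_apply]
        split_ifs with hji
        · subst hji; omega
        · exact Nat.zero_le _
      obtain ⟨γ, rfl⟩ := exists_add_of_le h4
      rw [map_add, Finsupp.degree_single] at h2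
      obtain ⟨j, rfl⟩ : ∃ j, γ = Finsupp.single j 1 :=
        exists_of_degree_eq_one (by omega)
      rcases le_total i j with h | h
      · exact ⟨i, j, h, rfl⟩
      · exact ⟨j, i, h, add_comm _ _⟩
    rw [coeff_C, if_neg, sub_zero, Finset.sum_eq_single i, Finset.sum_eq_single j]
    · rw [if_pos rfl, Amat, Matrix.of_apply, if_pos hij, sub_self]
    · intro j' _ hj'
      by_cases h5 : i ≤ j'
      · rw [if_neg]
        intro hc
        exact hj' (single_add_single_eq h5 hij hc).2
      · rw [Amat, Matrix.of_apply, if_neg h5, ite_self]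
    · intro hc
      exact absurd (Finset.mem_univ _) hc
    · intro i' _ hi'
      refine Finset.sum_eq_zero fun j' _ => ?_
      by_cases h5 : i' ≤ j'
      · rw [if_neg]
        intro hc
        exact hi' (single_add_single_eq h5 hij hc).1
      · rw [Amat, Matrix.of_apply, if_neg h5, ite_self]
    · intro hc
      exact absurd (Finset.mem_univ _) hc
    · intro hc
      have := congrArg Finsupp.degree hc
      rw [map_add, Finsupp.degree_single, Finsupp.degree_single, map_zero] at this
      omega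

end Quad

end Groth.Agent.Vancyc.H261.GenPtLoc
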