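import Groth.Agent.Vancyc.H261.GenPtLoc

/-!
# Normal form at a generic critical point

* `std k s`: the standard polynomial in `s` variables, `∑ x_l y_l` (`s` even), `∑ x_l y_l + z²` (`s` odd, `2 ≠ 0`),
  `∑ x_l y_l + z² + z³` (`s` odd, `2 = 0`).
* `IsGen g a`: `a` is a critical point of `g` of the generic type: for every `M` there is a polynomial map, étale at the
  origin and mapping the origin to `a`, under which `g` becomes `c + l • std k s` modulo terms of order `≥ M`, `l ≠ 0`.
* `isGen_of_det`, `isGen_of_two`: the explicit open conditions.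
-/

set_option autoImplicit false
set_option linter.unusedSectionVars false

universe u v

open MvPolynomial

namespace Groth.Agent.Vancyc.H261.GenPtNF

open GenPtStep GenPtJet GenPtLoc
open Groth.Agent.Sga67.QuadSplit (IsAlt Split)
open Groth.Agent.Vancyc.H686.NormalForm (formPoly linHom linHom_X linHom_C linHom_formPoly formPoly_isAlt formPoly_sub
  formPoly_hyp split_of_isUnit_det)
open Groth.Agent.Vancyc.H686.NormalFormOdd (SplitOdd splitOdd_of_isUnit_det formPoly_odd)

section Std

/-- The pure part in the odd variable. -/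
noncomputable def odd (k : Type u) [Field k] (κ : Type) : MvPolynomial (Unit ⊕ (κ ⊕ κ)) k := by
  classical
  exact if (2 : k) = 0 then z k κ ^ 2 + z k κ ^ 3 else z k κ ^ 2

theorem exists_equiv_even {s : ℕ} (h : s % 2 = 0) : Nonempty (Fin (s / 2) ⊕ Fin (s / 2) ≃ Fin s) :=
  ⟨Fintype.equivOfCardEq (by rw [Fintype.card_sum, Fintype.card_fin, Fintype.card_fin]; omega)⟩

theorem exists_equiv_odd {s : ℕ} (h : ¬ s % 2 = 0) : Nonempty (Unit ⊕ (Fin (s / 2) ⊕ Fin (s / 2)) ≃ Fin s) :=
  ⟨Fintype.equivOfCardEq (by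
    rw [Fintype.card_sum, Fintype.card_sum, Fintype.card_fin, Fintype.card_fin, Fintype.card_unit]; omega)⟩

/-- The standard polynomial in `s` variables. -/
noncomputable def std (k : Type u) [Field k] (s : ℕ) : MvPolynomial (Fin s) k :=
  if h : s % 2 = 0 then rename (exists_equiv_even h).some (hyp k (Fin (s / 2)))
  else rename (exists_equiv_odd h).some (hyp' k (Fin (s / 2)) + odd k (Fin (s / 2)))

end Std

section Gen

variable {k : Type u} [Field k]

/-- `a` is a critical point of `g` of the generic type. -/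
def IsGen {s : ℕ} (g : MvPolynomial (Fin s) k) (a : Fin s → k) : Prop :=
  ∀ M : ℕ, ∃ (φ : Fin s → MvPolynomial (Fin s) k) (c l : k), l ≠ 0 ∧ (∀ i, constantCoeff (φ i) = a i) ∧
    (Matrix.of fun i j => constantCoeff (pderiv j (φ i))).det ≠ 0 ∧
    bind₁ φ g - C c - C l * std k s ∈ idealOfVars (Fin s) k ^ M

theorem finish {s : ℕ} {τ : Type} [Fintype τ] [DecidableEq τ] (e : τ ≃ Fin s) (q : MvPolynomial τ k)
    (hq : std k s = rename e q) (g : MvPolynomial (Fin s) k) (a : Fin s → k)
    (H : ∀ M : ℕ, ∃ (Φ : MvPolynomial (Fin s) k →ₐ[k] MvPolynomial τ k) (c l : k), l ≠ 0 ∧ Loc a Φ ∧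
      Φ g - C c - C l * q ∈ idealOfVars τ k ^ M) : IsGen g a := by
  intro M
  obtain ⟨Φ, c, l, hl, h1, h2⟩ := H M
  have h3 : Loc a ((rename e : MvPolynomial τ k →ₐ[k] MvPolynomial (Fin s) k).comp Φ) := h1.comp (loc_rename e)
  refine ⟨fun i => rename e (Φ (X i)), c, l, hl, h3.1, ?_, ?_⟩
  · obtain ⟨B, hB, -⟩ := h3.2
    have h4 := congrArg Matrix.det hB
    rw [Matrix.det_mul, Matrix.det_one] at h4
    intro h5
    have h6 : (jac ((rename e : MvPolynomial τ k →ₐ[k] MvPolynomial (Fin s) k).comp Φ)).det = 0 := h5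
    rw [h6, zero_mul] at h4
    exact zero_ne_one h4
  · have h4 : bind₁ (fun i => rename e (Φ (X i))) g = rename e (Φ g) := by
      have h5 : bind₁ (fun i => rename e (Φ (X i))) =
          (rename e : MvPolynomial τ k →ₐ[k] MvPolynomial (Fin s) k).comp Φ := by
        apply MvPolynomial.algHom_ext
        intro i
        rw [bind₁_X_right]
        rfl
      rw [h5]
      rfl
    have h5 : bind₁ (fun i => rename e (Φ (X i))) g - C c - C l * std k s = rename e (Φ g - C c - C l * q) := by
      rw [h4, hq, map_sub, map_sub, map_mul, rename_C, rename_C]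
    rw [h5]
    exact map_mem_pow _ (fun i => by rw [rename_X, constantCoeff_X]) M _ h2

theorem mem_of_comp {τ : Type} [Fintype τ] [DecidableEq τ] (q : MvPolynomial τ k) (side : MvPolynomial τ k → Prop)
    (hstep : ∀ (e : ℕ) (h : MvPolynomial τ k), 3 ≤ e → h ∈ idealOfVars τ k ^ e → (e = 3 → side h) →
      ∃ δ : τ → MvPolynomial τ k, (∀ i, δ i ∈ idealOfVars τ k ^ 2) ∧
        shift δ q - q + h ∈ idealOfVars τ k ^ (e + 1))
    {s : ℕ} (g : MvPolynomial (Fin s) k) (a : Fin s → k) (Φ : MvPolynomial (Fin s) k →ₐ[k] MvPolynomial τ k) (c l : k)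
    (hl : l ≠ 0) (hΦ : Loc a Φ) (h : MvPolynomial τ k) (hh : h ∈ idealOfVars τ k ^ 3) (hs : side h)
    (hg : Φ g = C c + C l * (q + h)) (M : ℕ) :
    ∃ (Φ : MvPolynomial (Fin s) k →ₐ[k] MvPolynomial τ k) (c l : k), l ≠ 0 ∧ Loc a Φ ∧
      Φ g - C c - C l * q ∈ idealOfVars τ k ^ M := by
  obtain ⟨Ψ, h1, h2, -⟩ := iterate q side hstep h hh hs M
  refine ⟨Ψ.comp Φ, c, l, hl, hΦ.comp (loc_of_sub_mem Ψ h1), ?_⟩
  have h3 : ∀ x : k, Ψ (C x) = C x := fun x => Ψ.commutes x
  have h4 : (Ψ.comp Φ) g - C c - C l * q = C l * (Ψ (q + h) - q) := by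
    rw [AlgHom.comp_apply, hg, map_add, map_mul, h3, h3]
    ring
  rw [h4]
  exact Ideal.mul_mem_left _ _ (mem_of_le (by omega) h2)

end Gen

section Det

variable {k : Type u} [Field k] [IsAlgClosed k]

instance : IsSepClosed (IsLocalRing.ResidueField k) := by
  have e : k ≃+* IsLocalRing.ResidueField k :=
    RingEquiv.ofBijective (IsLocalRing.residue k) ⟨(IsLocalRing.residue k).injective, IsLocalRing.residue_surjective⟩
  have := IsAlgClosed.of_ringEquiv k (IsLocalRing.ResidueField k) e
  infer_instance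

/-- **The nondegenerate case.** -/
theorem isGen_of_det {s : ℕ} (g : MvPolynomial (Fin s) k) (a : Fin s → k)
    (hg : ∀ i, coeff (Finsupp.single i 1) (tr a g) = 0) (hs : s % 2 = 0 ∨ (2 : k) ≠ 0)
    (hdet : ((Amat fun β => coeff β (tr a g)) + (Amat fun β => coeff β (tr a g)).transpose).det ≠ 0) :
    IsGen g a := by
  classical
  set A := Amat fun β => coeff β (tr a g) with hA
  have h3 := sub_mem_three (tr a g) hg
  rw [← hA] at h3
  by_cases h0 : s % 2 = 0
  · -- even
    have hstd : std k s = rename (exists_equiv_even h0).some (hyp k (Fin (s / 2))) := by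
      rw [std, dif_pos h0]
    obtain ⟨u, u', hu, hu', halt⟩ := split_of_isUnit_det (R := k) (s / 2) (Fin s)
      (by rw [Fintype.card_fin]; omega) A hdet.isUnit
    have hform : linHom u (formPoly A) = hyp k (Fin (s / 2)) := by
      have h4 := formPoly_isAlt _ halt
      rw [formPoly_sub, sub_eq_zero, formPoly_hyp] at h4
      rw [linHom_formPoly, h4]
      rfl
    have hloc : Loc a ((linHom u).comp (tr (k := k) a)) := (loc_tr a).comp (loc_linHom u u' hu hu')
    refine finish _ _ hstd g a fun M => ?_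
    refine mem_of_comp (hyp k (Fin (s / 2))) (fun _ => True) (fun e h he hh _ => step_even e h he hh) g a
      ((linHom u).comp (tr (k := k) a)) (constantCoeff (tr a g)) 1 one_ne_zero hloc
      (linHom u (tr a g - C (constantCoeff (tr a g)) - formPoly A))
      (map_mem_pow _ (loc_linHom u u' hu hu').1 3 _ h3) trivial ?_ M
    rw [map_sub, map_sub, hform, linHom_C, C_1, one_mul]
    change linHom u (tr a g) = _
    ring
  · have h2 : (2 : k) ≠ 0 := hs.resolve_left h0
    have hstd : std k s = rename (exists_equiv_odd h0).some (hyp' k (Fin (s / 2)) + z k (Fin (s / 2)) ^ 2) := by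
      rw [std, dif_neg h0, odd, if_neg h2]
    obtain ⟨u, u', hu, hu', halt⟩ := splitOdd_of_isUnit_det (R := k) h2.isUnit (s / 2) (Fin s)
      (by rw [Fintype.card_fin]; omega) A hdet.isUnit
    have hform : linHom u (formPoly A) = hyp' k (Fin (s / 2)) + z k (Fin (s / 2)) ^ 2 := by
      have h4 := formPoly_isAlt _ halt
      rw [formPoly_sub, sub_eq_zero, formPoly_odd] at h4
      rw [linHom_formPoly, h4, add_comm]
      rfl
    have hloc : Loc a ((linHom u).comp (tr (k := k) a)) := (loc_tr a).comp (loc_linHom u u' hu hu')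
    refine finish _ _ hstd g a fun M => ?_
    refine mem_of_comp _ (fun _ => True) (fun e h he hh _ => step_odd h2 e h he hh) g a
      ((linHom u).comp (tr (k := k) a)) (constantCoeff (tr a g)) 1 one_ne_zero hloc
      (linHom u (tr a g - C (constantCoeff (tr a g)) - formPoly A))
      (map_mem_pow _ (loc_linHom u u' hu hu').1 3 _ h3) trivial ?_ M
    rw [map_sub, map_sub, hform, linHom_C, C_1, one_mul]
    change linHom u (tr a g) = _
    ring

end Det

end Groth.Agent.Vancyc.H261.GenPtNF
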