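import Groth.Agent.Lefpen.H701.Rk
import Groth.Agent.Lefpen.H702.Generic
import Mathlib.RingTheory.MvPolynomial.Ideal
import Mathlib.Algebra.MvPolynomial.Funext
import Mathlib.Data.Finsupp.Weight

/-!
# Generic jets of polynomials with prescribed critical points (any characteristic)

For a finite family `M i` of polynomials and `w` such that the `r`-jets (without constant term) of the `M i` at every
point `a` with `w a ≠ 0` span, and a nonzero polynomial `D` in the jet coordinates of degree `2 ≤ |β| ≤ r`, the set of
parameters `b` such that `f₀ + ∑ b i • M i` has a critical point `a` with `w a ≠ 0` at which `D` vanishes is contained in a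
proper closed subset. The proof is a count of transcendence degrees.
-/

set_option autoImplicit false
set_option linter.unusedSectionVars false

universe u v

open MvPolynomial

namespace Groth.Agent.Vancyc.H261.GenPtRk

open Groth.Agent.Lefpen.H701.Rk

section Rank

variable (k : Type u) {K : Type v} [Field k] [Field K] [Algebra k K]

theorem algebraicIndependent_of_rk {ι : Type} [Fintype ι] {y : ι → K}
    (h : (Fintype.card ι : ℕ∞) ≤ rk k (Set.range y)) : AlgebraicIndependent k y := by
  classical
  have h1 : (Set.range y).encard ≤ (Fintype.card ι : ℕ∞) := by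
    rw [← Set.image_univ]
    refine (Set.encard_image_le y Set.univ).trans ?_
    simp [Set.encard_univ]
  have h2 : rk k (Set.range y) ≤ (Set.range y).encard := rk_le_encard k _
  have h3 : (Set.range y).encard = (Fintype.card ι : ℕ∞) := le_antisymm h1 (h.trans h2)
  have hfin : (Set.range y).Finite := Set.finite_range y
  have h4 : (AlgebraicIndependent.matroid k K).Indep (Set.range y) := by
    rw [Matroid.indep_iff_eRk_eq_encard_of_finite hfin]
    refine le_antisymm h2 ?_
    rw [h3]
    exact h
  have hinj : Function.Injective y := by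
    have h5 : (Finset.univ.image y).card = (Finset.univ : Finset ι).card := by
      have : ((Finset.univ.image y : Finset K) : Set K) = Set.range y := by simp
      rw [← this, Set.encard_coe_eq_coe_finsetCard] at h3
      rw [Finset.card_univ]
      exact_mod_cast h3
    have h6 := Finset.card_image_iff.mp h5
    exact fun a b hab => h6 (by simp) (by simp) hab
  rw [AlgebraicIndependent.matroid_indep_iff] at h4
  exact (algebraicIndependent_subtype_range hinj).mp h4

/-- If `C y = z` with `C` of full rank and `C`, `z` algebraic over `k(t)`, then `rk y ≤ rk t + (|ι| - |M|)`. -/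
theorem rk_le_of_linear_system' {M ι : Type} [Fintype M] [DecidableEq M] [Fintype ι]
    (t : Set K) (C : Matrix M ι K) (hCt : ∀ i j, C i j ∈ cl k t)
    (hC : Function.Surjective C.mulVec) (y : ι → K) (z : M → K) (hz : ∀ i, z i ∈ cl k t) (h : C.mulVec y = z) :
    rk k (Set.range y) ≤ rk k t + ((Fintype.card ι - Fintype.card M : ℕ) : ℕ∞) := by
  classical
  obtain ⟨β, hβ, hdet⟩ := exists_minor C hC
  let rest : Set K := y '' ((Set.range β)ᶜ)
  have hE : Set.range y ⊆ cl k (t ∪ rest) := by
    set E := clField k (t ∪ rest) with hEdef
    have hrest : ∀ j, j ∉ Set.range β → y j ∈ E := by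
      intro j hj
      exact (mem_clField k).2 (subset_cl k _ (Or.inr ⟨j, hj, rfl⟩))
    have hCE : ∀ i j, C i j ∈ E := fun i j =>
      (mem_clField k).2 (cl_mono k Set.subset_union_left (hCt i j))
    have hzE : ∀ i, z i ∈ E := fun i =>
      (mem_clField k).2 (cl_mono k Set.subset_union_left (hz i))
    have hsys : (C.submatrix id β).mulVec (y ∘ β) =
        fun m => z m - ∑ j ∈ Finset.univ.filter (fun j => j ∉ Set.range β), C m j * y j := by
      funext m
      have h1 : z m = ∑ j, C m j * y j := by rw [← h]; rfl
      rw [h1, ← Finset.sum_filter_add_sum_filter_not Finset.univ (fun j => j ∈ Set.range β)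
        (fun j => C m j * y j), add_sub_cancel_right]
      simp only [Matrix.mulVec, dotProduct, Matrix.submatrix_apply, id_eq, Function.comp_apply]
      symm
      refine Finset.sum_nbij' (i := fun j => if hj : j ∈ Set.range β then hj.choose else
          (Classical.choice ⟨m⟩)) (j := β) ?_ ?_ ?_ ?_ ?_
      · intro a _; exact Finset.mem_univ _
      · intro a _; simp
      · intro a ha
        have ha' : a ∈ Set.range β := (Finset.mem_filter.1 ha).2
        simp only [ha', dif_pos]
        exact ha'.choose_spec
      · intro a _
        have ha' : β a ∈ Set.range β := ⟨a, rfl⟩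
        simp only [ha', dif_pos]
        exact hβ ha'.choose_spec
      · intro a ha
        have ha' : a ∈ Set.range β := (Finset.mem_filter.1 ha).2
        simp only [ha', dif_pos]
        rw [ha'.choose_spec]
    have hu := mem_of_linear_system (E := E.toSubfield) (C.submatrix id β)
      (fun i j => hCE i (β j)) hdet (y ∘ β) _ (fun m => ?_) hsys
    · rintro _ ⟨j, rfl⟩
      by_cases hj : j ∈ Set.range β
      · obtain ⟨m, rfl⟩ := hj
        exact (mem_clField k).1 (hu m)
      · exact (mem_clField k).1 (hrest j hj)
    · refine sub_mem (hzE m) (sum_mem fun j hj => mul_mem (hCE m j) (hrest j ?_))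
      exact (Finset.mem_filter.1 hj).2
  refine (rk_le_of_subset_cl k hE).trans ?_
  refine (rk_union_le k _ _).trans (add_le_add le_rfl ?_)
  refine (rk_le_encard k _).trans ?_
  refine (Set.encard_image_le _ _).trans ?_
  have h3 : ((Set.range β)ᶜ).encard = ((Fintype.card ι - Fintype.card M : ℕ) : ℕ∞) := by
    rw [← Set.coe_toFinset ((Set.range β)ᶜ), Set.encard_coe_eq_coe_finsetCard, Set.toFinset_compl,
      Finset.card_compl, Set.toFinset_range, Finset.card_image_of_injective _ hβ,
      Finset.card_univ]
  rw [h3]

/-- The count: a point `(b, a)` such that the jet of `g_b` at `a` has zero linear part and higher part satisfying a nonzero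
polynomial equation is not generic in `b`. -/
theorem not_algebraicIndependent {σ ι J : Type} [Fintype σ] [Fintype ι] [Fintype J] (a : σ → K) (b : ι → K)
    (C : Matrix (σ ⊕ J) ι K) (hCt : ∀ i j, C i j ∈ cl k (Set.range a)) (hC : Function.Surjective C.mulVec)
    (e : σ ⊕ J → K) (he : ∀ i, e i ∈ cl k (Set.range a)) (h0 : ∀ i : σ, e (Sum.inl i) + C.mulVec b (Sum.inl i) = 0)
    (D : MvPolynomial J k) (hD : D ≠ 0) (h1 : aeval (fun j : J => e (Sum.inr j) + C.mulVec b (Sum.inr j)) D = 0) :
    ¬ AlgebraicIndependent k b := by
  classical
  intro hb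
  set c : J → K := fun j => e (Sum.inr j) + C.mulVec b (Sum.inr j) with hc
  have hcard : Fintype.card (σ ⊕ J) ≤ Fintype.card ι := by
    have h2 := LinearMap.finrank_le_finrank_of_surjective (f := Matrix.mulVecLin C) hC
    simpa using h2
  have hz : ∀ i, C.mulVec b i ∈ cl k (Set.range a ∪ Set.range c) := by
    intro i
    have h3 : C.mulVec b i = (e i + C.mulVec b i) - e i := by ring
    rw [h3]
    have h4 : e i ∈ clField k (Set.range a ∪ Set.range c) :=
      (mem_clField k).2 (cl_mono k Set.subset_union_left (he i))
    have h5 : e i + C.mulVec b i ∈ clField k (Set.range a ∪ Set.range c) := by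
      rcases i with i | j
      · rw [h0]
        exact zero_mem _
      · exact (mem_clField k).2 (subset_cl k _ (Or.inr ⟨j, rfl⟩))
    exact (mem_clField k).1 (sub_mem h5 h4)
  have h2 := rk_le_of_linear_system' k (Set.range a ∪ Set.range c) C
    (fun i j => cl_mono k Set.subset_union_left (hCt i j)) hC b (C.mulVec b) hz rfl
  rw [rk_range_of_algebraicIndependent k hb] at h2
  have h3 : rk k (Set.range a ∪ Set.range c) ≤ Fintype.card σ + rk k (Set.range c) :=
    (rk_union_le k _ _).trans (add_le_add (rk_range_le k a) le_rfl)
  have h4 : (Fintype.card ι : ℕ∞) ≤ Fintype.card σ + rk k (Set.range c) +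
      ((Fintype.card ι - Fintype.card (σ ⊕ J) : ℕ) : ℕ∞) := h2.trans (add_le_add h3 le_rfl)
  have h5 : rk k (Set.range c) ≤ Fintype.card J := rk_range_le k c
  have h6 : (Fintype.card J : ℕ∞) ≤ rk k (Set.range c) := by
    obtain ⟨r, hr⟩ := ENat.ne_top_iff_exists.mp (ne_top_of_le_ne_top (ENat.coe_ne_top _) h5)
    rw [← hr] at h4 h5 ⊢
    rw [Fintype.card_sum] at h4 hcard
    have h7 : Fintype.card ι ≤ Fintype.card σ + r + (Fintype.card ι - (Fintype.card σ + Fintype.card J)) := by
      exact_mod_cast h4
    have : Fintype.card J ≤ r := by omega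
    exact_mod_cast this
  have h7 := algebraicIndependent_of_rk k h6
  rw [algebraicIndependent_iff] at h7
  exact hD (h7 D h1)

end Rank

end Groth.Agent.Vancyc.H261.GenPtRk
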