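import Groth.Agent.Vancyc.H261.GenPtRk
import Mathlib.Algebra.MvPolynomial.PDeriv
import Mathlib.RingTheory.Ideal.Maps
import Mathlib.Algebra.CharP.Two
import Mathlib.FieldTheory.IsAlgClosed.Basic

/-!
# Elimination of higher order terms

For the polynomials `q = ∑ x_k y_k`, `z² + ∑ x_k y_k` (`2 ≠ 0`), `z² + z³ + ∑ x_k y_k` (`2 = 0`) a perturbation
`q + h`, `h ∈ m³` (in the last case without `z³`-term) becomes `q` modulo `m ^ M` after a substitution
`X i ↦ X i + (terms of order ≥ 2)`.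
-/

set_option autoImplicit false
set_option linter.unusedSectionVars false

universe u v

open MvPolynomial

namespace Groth.Agent.Vancyc.H261.GenPtStep

section Shift

variable {k : Type u} [Field k] {τ : Type} [Fintype τ]

/-- The substitution `X i ↦ X i + δ i`. -/
noncomputable def shift (δ : τ → MvPolynomial τ k) : MvPolynomial τ k →ₐ[k] MvPolynomial τ k :=
  aeval fun i => X i + δ i

@[simp]
theorem shift_X (δ : τ → MvPolynomial τ k) (i : τ) : shift δ (X i) = X i + δ i := aeval_X _ _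

theorem X_mem (i : τ) : (X i : MvPolynomial τ k) ∈ idealOfVars τ k := Ideal.subset_span ⟨i, rfl⟩

theorem sub_mem_two (Φ : MvPolynomial τ k →ₐ[k] MvPolynomial τ k) (hΦ : ∀ i, Φ (X i) - X i ∈ idealOfVars τ k ^ 2)
    (p : MvPolynomial τ k) : Φ p - p ∈ idealOfVars τ k ^ 2 := by
  induction p using MvPolynomial.induction_on with
  | C c =>
    have : Φ (C c) = C c := Φ.commutes c
    rw [this, sub_self]
    exact zero_mem _
  | add p q hp hq =>
    rw [map_add, add_sub_add_comm]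
    exact add_mem hp hq
  | mul_X p i hp =>
    have h1 : Φ (p * X i) - p * X i = (Φ p - p) * Φ (X i) + p * (Φ (X i) - X i) := by rw [map_mul]; ring
    rw [h1]
    exact add_mem (Ideal.mul_mem_right _ _ hp) (Ideal.mul_mem_left _ _ (hΦ i))

theorem sub_mem_succ (Φ : MvPolynomial τ k →ₐ[k] MvPolynomial τ k) (hΦ : ∀ i, Φ (X i) - X i ∈ idealOfVars τ k ^ 2)
    (e : ℕ) : ∀ h ∈ idealOfVars τ k ^ e, Φ h - h ∈ idealOfVars τ k ^ (e + 1) := by
  induction e with
  | zero =>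
    intro h _
    exact Ideal.pow_le_pow_right (by norm_num) (sub_mem_two Φ hΦ h)
  | succ e ih =>
    intro h hh
    rw [pow_succ] at hh
    refine Submodule.mul_induction_on hh (fun p hp q hq => ?_) (fun p q hp hq => ?_)
    · have h1 : Φ (p * q) - p * q = (Φ p - p) * Φ q + p * (Φ q - q) := by rw [map_mul]; ring
      rw [h1]
      have h2 : Φ q ∈ idealOfVars τ k := by
        have h3 : Φ q = (Φ q - q) + q := by ring
        rw [h3]
        exact add_mem (Ideal.pow_le_self two_ne_zero (sub_mem_two Φ hΦ q)) hq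
      refine add_mem ?_ ?_
      · rw [pow_succ]
        exact Ideal.mul_mem_mul (ih p hp) h2
      · rw [add_assoc, pow_add]
        exact Ideal.mul_mem_mul hp (sub_mem_two Φ hΦ q)
    · rw [map_add, add_sub_add_comm]
      exact add_mem hp hq

/-- **Iteration.** -/
theorem iterate (q₀ : MvPolynomial τ k) (side : MvPolynomial τ k → Prop)
    (hstep : ∀ (e : ℕ) (h : MvPolynomial τ k), 3 ≤ e → h ∈ idealOfVars τ k ^ e → (e = 3 → side h) →
      ∃ δ : τ → MvPolynomial τ k, (∀ i, δ i ∈ idealOfVars τ k ^ 2) ∧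
        shift δ q₀ - q₀ + h ∈ idealOfVars τ k ^ (e + 1))
    (h : MvPolynomial τ k) (hh : h ∈ idealOfVars τ k ^ 3) (hs : side h) (e : ℕ) :
    ∃ Φ : MvPolynomial τ k →ₐ[k] MvPolynomial τ k, (∀ i, Φ (X i) - X i ∈ idealOfVars τ k ^ 2) ∧
      Φ (q₀ + h) - q₀ ∈ idealOfVars τ k ^ (e + 3) ∧ (e = 0 → side (Φ (q₀ + h) - q₀)) := by
  induction e with
  | zero =>
    refine ⟨AlgHom.id k _, fun i => ?_, ?_, fun _ => ?_⟩
    · change X i - X i ∈ _
      rw [sub_self]
      exact zero_mem _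
    · change q₀ + h - q₀ ∈ _
      rw [add_sub_cancel_left]
      exact hh
    · change side (q₀ + h - q₀)
      rw [add_sub_cancel_left]
      exact hs
  | succ e ih =>
    obtain ⟨Φ, h1, h2, h3⟩ := ih
    obtain ⟨δ, hδ, h4⟩ := hstep (e + 3) (Φ (q₀ + h) - q₀) (by omega) h2 (fun he => h3 (by omega))
    have hδ' : ∀ i, shift δ (X i) - X i ∈ idealOfVars τ k ^ 2 := fun i => by
      rw [shift_X, add_sub_cancel_left]
      exact hδ i
    refine ⟨(shift δ).comp Φ, fun i => ?_, ?_, fun he => absurd he (by omega)⟩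
    · have h5 : ((shift δ).comp Φ) (X i) - X i =
          (shift δ (Φ (X i) - X i) - (Φ (X i) - X i)) + (Φ (X i) - X i) + (shift δ (X i) - X i) := by
        rw [AlgHom.comp_apply, map_sub]
        ring
      rw [h5]
      refine add_mem (add_mem ?_ (h1 i)) (hδ' i)
      exact sub_mem_two _ hδ' _
    · have h5 : ((shift δ).comp Φ) (q₀ + h) - q₀ = (shift δ q₀ - q₀ + (Φ (q₀ + h) - q₀)) +
          (shift δ (Φ (q₀ + h) - q₀) - (Φ (q₀ + h) - q₀)) := by
        rw [AlgHom.comp_apply]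
        simp only [map_sub]
        ring
      rw [h5, show e + 1 + 3 = e + 3 + 1 by omega]
      exact add_mem h4 (sub_mem_succ _ hδ' _ _ h2)

/-- Elements of `m ^ (e + 1)` are combinations of the variables with coefficients in `m ^ e`. -/
theorem exists_decomp (e : ℕ) (h : MvPolynomial τ k) (hh : h ∈ idealOfVars τ k ^ (e + 1)) :
    ∃ c : τ → MvPolynomial τ k, (∀ i, c i ∈ idealOfVars τ k ^ e) ∧ ∑ i, c i * X i = h := by
  rw [pow_succ] at hh
  have h1 : h ∈ (idealOfVars τ k ^ e) • Ideal.span (Set.range (X : τ → MvPolynomial τ k)) := hh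
  rw [Submodule.mem_ideal_smul_span_iff_exists_sum] at h1
  obtain ⟨a, ha, ha'⟩ := h1
  refine ⟨fun i => a i, ha, ?_⟩
  rw [← ha', Finsupp.sum_fintype]
  · rfl
  · intro i
    exact zero_smul _ _

end Shift

section Even

variable {k : Type u} [Field k] {κ : Type} [Fintype κ]

/-- `∑ x_k y_k`. -/
noncomputable def hyp (k : Type u) [Field k] (κ : Type) [Fintype κ] : MvPolynomial (κ ⊕ κ) k :=
  ∑ l : κ, X (Sum.inl l) * X (Sum.inr l)

theorem mem_of_le {τ : Type} {e e' : ℕ} (h : e ≤ e') {p : MvPolynomial τ k} (hp : p ∈ idealOfVars τ k ^ e') :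
    p ∈ idealOfVars τ k ^ e := Ideal.pow_le_pow_right h hp

theorem step_even (e : ℕ) (h : MvPolynomial (κ ⊕ κ) k) (he : 3 ≤ e) (hh : h ∈ idealOfVars (κ ⊕ κ) k ^ e) :
    ∃ δ : κ ⊕ κ → MvPolynomial (κ ⊕ κ) k, (∀ i, δ i ∈ idealOfVars (κ ⊕ κ) k ^ 2) ∧
      shift δ (hyp k κ) - hyp k κ + h ∈ idealOfVars (κ ⊕ κ) k ^ (e + 1) := by
  obtain ⟨e, rfl⟩ : ∃ e', e = e' + 1 := ⟨e - 1, by omega⟩
  obtain ⟨c, hc, rfl⟩ := exists_decomp e h hh
  refine ⟨Sum.elim (fun l => - c (Sum.inr l)) (fun l => - c (Sum.inl l)), ?_, ?_⟩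
  · rintro (l | l)
    · exact mem_of_le (by omega) (neg_mem (hc _))
    · exact mem_of_le (by omega) (neg_mem (hc _))
  · have h1 : shift (Sum.elim (fun l => - c (Sum.inr l)) (fun l => - c (Sum.inl l))) (hyp k κ) - hyp k κ +
        ∑ i, c i * X i = ∑ l : κ, c (Sum.inr l) * c (Sum.inl l) := by
      rw [hyp, map_sum, Fintype.sum_sum_type, ← Finset.sum_sub_distrib, ← Finset.sum_add_distrib,
        ← Finset.sum_add_distrib]
      refine Finset.sum_congr rfl fun l _ => ?_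
      rw [map_mul, shift_X, shift_X, Sum.elim_inl, Sum.elim_inr]
      ring
    rw [h1]
    refine sum_mem fun l _ => mem_of_le (show e + 1 + 1 ≤ e + e by omega) ?_
    rw [pow_add]
    exact Ideal.mul_mem_mul (hc _) (hc _)

end Even

section Odd

variable {k : Type u} [Field k] {κ : Type} [Fintype κ]

/-- `∑ x_k y_k` in the variables `z, x_k, y_k`. -/
noncomputable def hyp' (k : Type u) [Field k] (κ : Type) [Fintype κ] : MvPolynomial (Unit ⊕ (κ ⊕ κ)) k :=
  ∑ l : κ, X (Sum.inr (Sum.inl l)) * X (Sum.inr (Sum.inr l))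

/-- The variable `z`. -/
noncomputable abbrev z (k : Type u) [Field k] (κ : Type) : MvPolynomial (Unit ⊕ (κ ⊕ κ)) k := X (Sum.inl ())

theorem shift_hyp' (δ : Unit ⊕ (κ ⊕ κ) → MvPolynomial (Unit ⊕ (κ ⊕ κ)) k) (c : κ ⊕ κ → MvPolynomial (Unit ⊕ (κ ⊕ κ)) k)
    (h1 : ∀ l, δ (Sum.inr (Sum.inl l)) = - c (Sum.inr l)) (h2 : ∀ l, δ (Sum.inr (Sum.inr l)) = - c (Sum.inl l)) :
    shift δ (hyp' k κ) - hyp' k κ + ∑ i, c i * X (Sum.inr i) = ∑ l : κ, c (Sum.inr l) * c (Sum.inl l) := by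
  rw [hyp', map_sum, Fintype.sum_sum_type, ← Finset.sum_sub_distrib, ← Finset.sum_add_distrib,
    ← Finset.sum_add_distrib]
  refine Finset.sum_congr rfl fun l _ => ?_
  rw [map_mul, shift_X, shift_X, h1, h2]
  ring

theorem step_odd (h2 : (2 : k) ≠ 0) (e : ℕ) (h : MvPolynomial (Unit ⊕ (κ ⊕ κ)) k) (he : 3 ≤ e)
    (hh : h ∈ idealOfVars (Unit ⊕ (κ ⊕ κ)) k ^ e) :
    ∃ δ : Unit ⊕ (κ ⊕ κ) → MvPolynomial (Unit ⊕ (κ ⊕ κ)) k, (∀ i, δ i ∈ idealOfVars (Unit ⊕ (κ ⊕ κ)) k ^ 2) ∧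
      shift δ (hyp' k κ + z k κ ^ 2) - (hyp' k κ + z k κ ^ 2) + h ∈ idealOfVars (Unit ⊕ (κ ⊕ κ)) k ^ (e + 1) := by
  obtain ⟨e, rfl⟩ : ∃ e', e = e' + 1 := ⟨e - 1, by omega⟩
  obtain ⟨c, hc, rfl⟩ := exists_decomp e h hh
  let δ : Unit ⊕ (κ ⊕ κ) → MvPolynomial (Unit ⊕ (κ ⊕ κ)) k :=
    Sum.elim (fun _ => - (C (2 : k)⁻¹ * c (Sum.inl ())))
      (Sum.elim (fun l => - c (Sum.inr (Sum.inr l))) (fun l => - c (Sum.inr (Sum.inl l))))
  refine ⟨δ, ?_, ?_⟩
  · rintro (_ | (l | l))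
    · exact mem_of_le (by omega) (neg_mem (Ideal.mul_mem_left _ _ (hc _)))
    · exact mem_of_le (by omega) (neg_mem (hc _))
    · exact mem_of_le (by omega) (neg_mem (hc _))
  · have h3 := shift_hyp' δ (fun i => c (Sum.inr i)) (fun l => rfl) (fun l => rfl)
    have h4 : (2 : MvPolynomial (Unit ⊕ (κ ⊕ κ)) k) * C (2 : k)⁻¹ = 1 := by
      have : (2 : MvPolynomial (Unit ⊕ (κ ⊕ κ)) k) = C (2 : k) := (map_ofNat C 2).symm
      rw [this, ← C_mul, mul_inv_cancel₀ h2, C_1]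
    have h5 : shift δ (hyp' k κ + z k κ ^ 2) - (hyp' k κ + z k κ ^ 2) + ∑ i, c i * X i =
        ∑ l : κ, c (Sum.inr (Sum.inr l)) * c (Sum.inr (Sum.inl l)) + (C (2 : k)⁻¹ * c (Sum.inl ())) ^ 2 := by
      rw [← h3, Fintype.sum_sum_type, map_add, map_pow, shift_X]
      simp only [Finset.univ_unique, Finset.sum_singleton]
      change _ + (X (Sum.inl ()) + - (C (2 : k)⁻¹ * c (Sum.inl ()))) ^ 2 - _ + (c (Sum.inl ()) * X (Sum.inl ()) + _) = _
      linear_combination (- c (Sum.inl ()) * X (Sum.inl ())) * h4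
    rw [h5]
    refine add_mem (sum_mem fun l _ => mem_of_le (show e + 1 + 1 ≤ e + e by omega) ?_)
      (mem_of_le (show e + 1 + 1 ≤ e + e by omega) ?_)
    · rw [pow_add]
      exact Ideal.mul_mem_mul (hc _) (hc _)
    · rw [sq, pow_add]
      exact Ideal.mul_mem_mul (Ideal.mul_mem_left _ _ (hc _)) (Ideal.mul_mem_left _ _ (hc _))

/-- Splitting off the pure power of `z` of lowest order. -/
theorem exists_decomp' (e : ℕ) : ∀ h : MvPolynomial (Unit ⊕ (κ ⊕ κ)) k, h ∈ idealOfVars (Unit ⊕ (κ ⊕ κ)) k ^ e →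
    ∃ (c : κ ⊕ κ → MvPolynomial (Unit ⊕ (κ ⊕ κ)) k) (t : k), (∀ i, c i ∈ idealOfVars (Unit ⊕ (κ ⊕ κ)) k ^ (e - 1)) ∧
      h - ∑ i, c i * X (Sum.inr i) - C t * z k κ ^ e ∈ idealOfVars (Unit ⊕ (κ ⊕ κ)) k ^ (e + 1) := by
  induction e with
  | zero =>
    intro h _
    refine ⟨fun _ => 0, constantCoeff h, fun i => zero_mem _, ?_⟩
    simp only [zero_mul, Finset.sum_const_zero, sub_zero, pow_zero, mul_one]
    rw [mem_pow_idealOfVars_iff']
    intro x hx
    rw [zero_add, Nat.lt_one_iff, Finsupp.degree_eq_zero_iff] at hx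
    subst hx
    rw [coeff_sub, constantCoeff_eq, coeff_zero_C, sub_self]
  | succ e ih =>
    intro h hh
    obtain ⟨c, hc, rfl⟩ := exists_decomp e h hh
    obtain ⟨c', t, hc', ht⟩ := ih (c (Sum.inl ())) (hc _)
    refine ⟨fun i => c (Sum.inr i) + c' i * z k κ, t, fun i => ?_, ?_⟩
    · rw [Nat.add_sub_cancel]
      refine add_mem (hc _) ?_
      have h1 : c' i * z k κ ∈ idealOfVars (Unit ⊕ (κ ⊕ κ)) k ^ (e - 1 + 1) := by
        rw [pow_succ]
        exact Ideal.mul_mem_mul (hc' i) (X_mem _)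
      exact mem_of_le (by omega) h1
    · have h1 : ∑ i, c i * X i - ∑ i, (c (Sum.inr i) + c' i * z k κ) * X (Sum.inr i) - C t * z k κ ^ (e + 1) =
          (c (Sum.inl ()) - ∑ i, c' i * X (Sum.inr i) - C t * z k κ ^ e) * z k κ := by
        rw [Fintype.sum_sum_type]
        simp only [Finset.univ_unique, Finset.sum_singleton]
        change c (Sum.inl ()) * X (Sum.inl ()) + _ - _ - _ = _
        have h2 : ∑ i, (c (Sum.inr i) + c' i * z k κ) * X (Sum.inr i) =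
            ∑ i, c (Sum.inr i) * X (Sum.inr i) + (∑ i, c' i * X (Sum.inr i)) * z k κ := by
          rw [Finset.sum_mul, ← Finset.sum_add_distrib]
          exact Finset.sum_congr rfl fun i _ => by ring
        rw [h2]
        ring
      rw [h1, pow_succ]
      exact Ideal.mul_mem_mul ht (X_mem _)

theorem exists_artinSchreier [IsAlgClosed k] (t : k) : ∃ s : k, s ^ 2 + s + t = 0 := by
  have h1 : (Polynomial.X ^ 2 + Polynomial.X + Polynomial.C t : Polynomial k).degree ≠ 0 := by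
    have : (Polynomial.X ^ 2 + Polynomial.X + Polynomial.C t : Polynomial k).degree = 2 := by compute_degree!
    rw [this]
    norm_num
  obtain ⟨s, hs⟩ := IsAlgClosed.exists_root _ h1
  exact ⟨s, by simpa [Polynomial.IsRoot.def] using hs⟩

theorem step_two [IsAlgClosed k] [CharP k 2] (e : ℕ) (h : MvPolynomial (Unit ⊕ (κ ⊕ κ)) k) (he : 3 ≤ e)
    (hh : h ∈ idealOfVars (Unit ⊕ (κ ⊕ κ)) k ^ e) (h3 : e = 3 → coeff (Finsupp.single (Sum.inl ()) 3) h = 0) :
    ∃ δ : Unit ⊕ (κ ⊕ κ) → MvPolynomial (Unit ⊕ (κ ⊕ κ)) k, (∀ i, δ i ∈ idealOfVars (Unit ⊕ (κ ⊕ κ)) k ^ 2) ∧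
      shift δ (hyp' k κ + (z k κ ^ 2 + z k κ ^ 3)) - (hyp' k κ + (z k κ ^ 2 + z k κ ^ 3)) + h ∈
        idealOfVars (Unit ⊕ (κ ⊕ κ)) k ^ (e + 1) := by
  classical
  obtain ⟨c, t, hc, ht⟩ := exists_decomp' e h hh
  have htwo : (2 : MvPolynomial (Unit ⊕ (κ ⊕ κ)) k) = 0 := CharTwo.two_eq_zero
  -- the `z`-component
  obtain ⟨d, hd2, hd⟩ : ∃ d : MvPolynomial (Unit ⊕ (κ ⊕ κ)) k, d ∈ idealOfVars (Unit ⊕ (κ ⊕ κ)) k ^ 2 ∧
      ((z k κ + d) ^ 2 + (z k κ + d) ^ 3) - (z k κ ^ 2 + z k κ ^ 3) + C t * z k κ ^ e ∈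
        idealOfVars (Unit ⊕ (κ ⊕ κ)) k ^ (e + 1) := by
    have hz : ∀ n, z k κ ^ n ∈ idealOfVars (Unit ⊕ (κ ⊕ κ)) k ^ n := fun n => Ideal.pow_mem_pow (X_mem _) n
    rcases Nat.lt_or_ge e 4 with h4 | h4
    · -- `e = 3`
      obtain rfl : e = 3 := by omega
      have ht0 : t = 0 := by
        rw [mem_pow_idealOfVars_iff'] at ht
        have h5 := ht (Finsupp.single (Sum.inl ()) 3) (by rw [Finsupp.degree_single]; norm_num)
        rw [coeff_sub, coeff_sub, h3 rfl, coeff_sum, coeff_C_mul] at h5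
        have h6 : ∀ i, coeff (Finsupp.single (Sum.inl ()) 3) (c i * X (Sum.inr i)) = 0 := by
          intro i
          rw [coeff_mul_X', if_neg]
          rw [Finsupp.mem_support_iff, not_not, Finsupp.single_apply, if_neg]
          simp
        have h7 : coeff (Finsupp.single (Sum.inl ()) 3) (z k κ ^ 3) = 1 := by
          rw [coeff_X_pow, if_pos rfl]
        rw [Finset.sum_eq_zero fun i _ => h6 i, h7] at h5
        simpa using h5
      refine ⟨0, zero_mem _, ?_⟩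
      rw [ht0]
      simp
    · rcases Nat.lt_or_ge e 5 with h5 | h5
      · obtain rfl : e = 4 := by omega
        obtain ⟨s, hs⟩ := exists_artinSchreier t
        refine ⟨C s * z k κ ^ 2, Ideal.mul_mem_left _ _ (hz 2), ?_⟩
        have h6 : ((z k κ + C s * z k κ ^ 2) ^ 2 + (z k κ + C s * z k κ ^ 2) ^ 3) - (z k κ ^ 2 + z k κ ^ 3) +
            C t * z k κ ^ 4 = (C s ^ 2 * 3 + C s ^ 3 * z k κ) * z k κ ^ 5 := by
          have h7 : (C s ^ 2 + C s + C t : MvPolynomial (Unit ⊕ (κ ⊕ κ)) k) = 0 := by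
            rw [← C_pow, ← C_add, ← C_add, hs, C_0]
          linear_combination (C s * z k κ ^ 3 + C s * z k κ ^ 4) * htwo + z k κ ^ 4 * h7
        rw [h6]
        exact Ideal.mul_mem_left _ _ (hz 5)
      · obtain ⟨n, rfl⟩ : ∃ n, e = n + 5 := ⟨e - 5, by omega⟩
        refine ⟨- (C t * z k κ ^ (n + 3)), neg_mem (Ideal.mul_mem_left _ _ (mem_of_le (by omega) (hz _))), ?_⟩
        have h6 : ((z k κ + - (C t * z k κ ^ (n + 3))) ^ 2 + (z k κ + - (C t * z k κ ^ (n + 3))) ^ 3) -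
            (z k κ ^ 2 + z k κ ^ 3) + C t * z k κ ^ (n + 5) =
            (C t ^ 2 * z k κ ^ n * (1 + 3 * z k κ) - C t ^ 3 * z k κ ^ (2 * n + 3)) * z k κ ^ (n + 6) := by
          linear_combination (- (C t * z k κ ^ (n + 4)) - C t * z k κ ^ (n + 5)) * htwo
        rw [h6]
        exact Ideal.mul_mem_left _ _ (hz _)
  let δ : Unit ⊕ (κ ⊕ κ) → MvPolynomial (Unit ⊕ (κ ⊕ κ)) k :=
    Sum.elim (fun _ => d) (Sum.elim (fun l => - c (Sum.inr l)) (fun l => - c (Sum.inl l)))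
  refine ⟨δ, ?_, ?_⟩
  · rintro (_ | (l | l))
    · exact hd2
    · exact mem_of_le (by omega) (neg_mem (hc _))
    · exact mem_of_le (by omega) (neg_mem (hc _))
  · have h4 := shift_hyp' δ c (fun l => rfl) (fun l => rfl)
    have h5 : shift δ (hyp' k κ + (z k κ ^ 2 + z k κ ^ 3)) - (hyp' k κ + (z k κ ^ 2 + z k κ ^ 3)) + h =
        ∑ l : κ, c (Sum.inr l) * c (Sum.inl l) +
        (((z k κ + d) ^ 2 + (z k κ + d) ^ 3) - (z k κ ^ 2 + z k κ ^ 3) + C t * z k κ ^ e) +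
        (h - ∑ i, c i * X (Sum.inr i) - C t * z k κ ^ e) := by
      rw [← h4, map_add, map_add, map_pow, map_pow, shift_X]
      change _ + ((X (Sum.inl ()) + d) ^ 2 + (X (Sum.inl ()) + d) ^ 3) - _ + h = _
      ring
    rw [h5]
    refine add_mem (add_mem (sum_mem fun l _ => mem_of_le (show e + 1 ≤ (e - 1) + (e - 1) by omega) ?_) hd) ht
    rw [pow_add]
    exact Ideal.mul_mem_mul (hc _) (hc _)

end Odd

end Groth.Agent.Vancyc.H261.GenPtStep
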