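import Groth.Agent.Vancyc.H261.GenPtNF

/-!
# Normal form at a generic critical point: characteristic two, odd number of variables
-/

set_option autoImplicit false
set_option linter.unusedSectionVars false

universe u v

open MvPolynomial

namespace Groth.Agent.Vancyc.H261.GenPtTwo

open GenPtStep GenPtJet GenPtLoc GenPtNF
open Groth.Agent.Sga67.QuadSplit (IsAlt Split)
open Groth.Agent.Vancyc.H686.NormalForm (formPoly linHom linHom_X linHom_C linHom_formPoly formPoly_isAlt formPoly_sub
  formPoly_hyp split_of_isUnit_det)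

section Kernel

variable {σ : Type} [Fintype σ] [DecidableEq σ] (i₀ : σ) {k : Type u} [Field k] [IsAlgClosed k]

/-- Splitting off the kernel vector `w` of the polar form. -/
theorem exists_split (A : Matrix σ σ k) (m : ℕ) (hm : Fintype.card σ = 2 * m + 1) (w : σ → k) (hw0 : w i₀ ≠ 0)
    (hw : ∀ j, j ≠ i₀ → (A + A.transpose).mulVec w j = 0)
    (hJ : ((A + A.transpose).submatrix (Subtype.val : {i // i ≠ i₀} → σ) Subtype.val).det ≠ 0) (l : k) (hl : l ≠ 0) :
    ∃ (W : Matrix σ (Unit ⊕ (Fin m ⊕ Fin m)) k) (W' : Matrix (Unit ⊕ (Fin m ⊕ Fin m)) σ k), W * W' = 1 ∧ W' * W = 1 ∧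
      (∀ i, W i (Sum.inl ()) = w i) ∧
      IsAlt (W.transpose * A * W - Matrix.fromBlocks (fun _ _ => ∑ j, (∑ i, w i * A i j) * w j) 0 0
        (l • Matrix.fromBlocks 0 1 0 0)) := by
  classical
  -- the complement of `i₀`
  let J := {i : σ // i ≠ i₀}
  have hcJ : Fintype.card J = 2 * m := by
    have h1 : Fintype.card J = Fintype.card σ - 1 := by
      rw [Fintype.card_subtype_compl, Fintype.card_subtype_eq]
    omega
  let AJ : Matrix J J k := A.submatrix Subtype.val Subtype.val
  have hAJ : (l⁻¹ • AJ) + (l⁻¹ • AJ).transpose =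
      l⁻¹ • ((A + A.transpose).submatrix (Subtype.val : {i // i ≠ i₀} → σ) Subtype.val) := by
    rw [Matrix.transpose_smul, ← smul_add]
    rfl
  obtain ⟨g, g', hg, hg', halt⟩ := split_of_isUnit_det (R := k) m J hcJ (l⁻¹ • AJ) (by
    rw [hAJ, Matrix.det_smul]
    exact ((pow_ne_zero _ (inv_ne_zero hl)).isUnit).mul hJ.isUnit)
  -- the matrix `V`
  let V : Matrix σ (Unit ⊕ J) k := Matrix.of fun i x => Sum.elim (fun _ => w i) (fun j : J => if i = j then 1 else 0) x
  let U : Matrix (Unit ⊕ J) σ k := Matrix.of fun x i => Sum.elim (fun _ => if i = i₀ then (w i₀)⁻¹ else 0)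
    (fun j : J => (if i = j then 1 else 0) - (if i = i₀ then w j * (w i₀)⁻¹ else 0)) x
  have hVU : V * U = 1 := by
    ext i i'
    rw [Matrix.mul_apply, Fintype.sum_sum_type]
    simp only [V, U, Matrix.of_apply, Sum.elim_inl, Sum.elim_inr, Finset.univ_unique, Finset.sum_singleton,
      Matrix.one_apply]
    by_cases hi : i = i₀
    · subst hi
      rw [Finset.sum_eq_zero]
      · by_cases hi' : i' = i
        · subst hi'
          simp [hw0]
        · rw [if_neg hi', if_neg (Ne.symm hi'), mul_zero, add_zero]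
      · intro j _
        rw [if_neg (fun h => j.2 h.symm), zero_mul]
    · rw [Finset.sum_eq_single (⟨i, hi⟩ : J)]
      · rw [if_pos rfl, one_mul]
        by_cases hi' : i' = i₀
        · subst hi'
          rw [if_pos rfl, if_pos rfl, if_neg (Ne.symm hi), if_neg hi]
          ring
        · rw [if_neg hi', if_neg hi', mul_zero, zero_add, sub_zero]
          by_cases h : i' = i
          · rw [if_pos h, if_pos h.symm]
          · rw [if_neg h, if_neg (Ne.symm h)]
      · intro j _ hj
        rw [if_neg, zero_mul]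
        intro h
        exact hj (Subtype.ext h.symm)
      · intro h
        exact absurd (Finset.mem_univ _) h
  have hUV : U * V = 1 := by
    have hc : Fintype.card σ = Fintype.card (Unit ⊕ J) := by
      rw [Fintype.card_sum, Fintype.card_unit, hcJ, hm, add_comm]
    exact (Matrix.mul_eq_one_comm_of_card_eq _ _ _ hc).mp hVU
  -- the alternating matrix
  have hV : IsAlt (V.transpose * A * V - Matrix.fromBlocks (fun _ _ => ∑ j, (∑ i, w i * A i j) * w j) 0 0 AJ) := by
    refine ⟨Matrix.fromBlocks 0 (Matrix.of fun _ j => ∑ i, w i * A i j.1) 0 0, ?_⟩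
    have key : ∀ j : J, ∑ j', A j.1 j' * w j' = - ∑ i, w i * A i j.1 := by
      intro j
      have h1 := hw j.1 j.2
      rw [Matrix.mulVec, dotProduct] at h1
      simp only [Matrix.add_apply, Matrix.transpose_apply, add_mul, Finset.sum_add_distrib] at h1
      rw [eq_neg_iff_add_eq_zero, ← h1]
      congr 1
      exact Finset.sum_congr rfl fun i _ => mul_comm _ _
    ext x y
    rw [Matrix.sub_apply, Matrix.mul_apply]
    simp only [Matrix.mul_apply, Matrix.transpose_apply]
    rcases x with _ | x <;> rcases y with _ | y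
    · simp [V]
    · simp only [V, Matrix.of_apply, Sum.elim_inl, Sum.elim_inr, mul_ite, mul_one, mul_zero, Finset.sum_ite_eq',
        Finset.mem_univ, if_true, Matrix.fromBlocks_apply₁₂, Matrix.sub_apply, Matrix.zero_apply, sub_zero,
        Matrix.transpose_apply, Matrix.fromBlocks_apply₂₁]
    · simp only [V, Matrix.of_apply, Sum.elim_inl, Sum.elim_inr, ite_mul, one_mul, zero_mul, Finset.sum_ite_eq',
        Finset.mem_univ, if_true, Matrix.fromBlocks_apply₁₂, Matrix.sub_apply, Matrix.zero_apply, sub_zero, zero_sub,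
        Matrix.transpose_apply, Matrix.fromBlocks_apply₂₁]
      exact key x
    · simp only [V, Matrix.of_apply, Sum.elim_inr, ite_mul, one_mul, zero_mul, mul_ite, mul_one, mul_zero,
        Finset.sum_ite_eq', Finset.mem_univ, if_true, Matrix.fromBlocks_apply₂₂, Matrix.sub_apply, Matrix.zero_apply,
        Matrix.transpose_apply, AJ, Matrix.submatrix_apply, sub_self]
  refine ⟨V * Matrix.fromBlocks 1 0 0 g, Matrix.fromBlocks 1 0 0 g' * U, ?_, ?_, fun i => ?_, ?_⟩
  · rw [Matrix.mul_assoc, ← Matrix.mul_assoc (Matrix.fromBlocks 1 0 0 g), Matrix.fromBlocks_multiply]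
    simp [hg, hVU]
  · rw [Matrix.mul_assoc, ← Matrix.mul_assoc U, hUV, Matrix.one_mul, Matrix.fromBlocks_multiply]
    simp [hg']
  · rw [Matrix.mul_apply, Fintype.sum_sum_type]
    simp [V]
  · have h1 := hV.conj (Matrix.fromBlocks (1 : Matrix Unit Unit k) (0 : Matrix Unit (Fin m ⊕ Fin m) k)
      (0 : Matrix J Unit k) g)
    have h2 : IsAlt (g.transpose * AJ * g - l • Matrix.fromBlocks 0 1 0 0) := by
      obtain ⟨d, hd⟩ := halt
      refine ⟨l • d, ?_⟩
      have h3 := congrArg (fun M => l • M) hd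
      simp only [smul_sub] at h3
      rw [Matrix.transpose_smul, ← h3]
      congr 1
      rw [Matrix.mul_smul, Matrix.smul_mul, smul_smul, mul_inv_cancel₀ hl, one_smul]
    have h3 : IsAlt (Matrix.fromBlocks (0 : Matrix Unit Unit k) 0 0
        (g.transpose * AJ * g - l • Matrix.fromBlocks 0 1 0 0)) :=
      Groth.Agent.Sga67.QuadSplit.IsAlt.fromBlocks Groth.Agent.Sga67.QuadSplit.isAlt_zero h2
    have h4 := h1.add h3
    convert h4 using 1
    rw [Matrix.mul_sub, Matrix.sub_mul, Matrix.transpose_mul]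
    have h5 : (Matrix.fromBlocks (1 : Matrix Unit Unit k) (0 : Matrix Unit (Fin m ⊕ Fin m) k)
        (0 : Matrix J Unit k) g).transpose * Matrix.fromBlocks (fun _ _ => ∑ j, (∑ i, w i * A i j) * w j) 0 0 AJ *
        (Matrix.fromBlocks (1 : Matrix Unit Unit k) (0 : Matrix Unit (Fin m ⊕ Fin m) k) (0 : Matrix J Unit k) g) =
        Matrix.fromBlocks (fun _ _ => ∑ j, (∑ i, w i * A i j) * w j) 0 0 (g.transpose * AJ * g) := by
      rw [Matrix.fromBlocks_transpose, Matrix.fromBlocks_multiply, Matrix.fromBlocks_multiply]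
      simp
    rw [h5]
    have h6 : Matrix.fromBlocks (fun _ _ => ∑ j, (∑ i, w i * A i j) * w j) 0 0 (g.transpose * AJ * g) =
        Matrix.fromBlocks (fun _ _ => ∑ j, (∑ i, w i * A i j) * w j) 0 0 (l • Matrix.fromBlocks 0 1 0 0) +
        Matrix.fromBlocks (0 : Matrix Unit Unit k) 0 0 (g.transpose * AJ * g - l • Matrix.fromBlocks 0 1 0 0) := by
      rw [Matrix.fromBlocks_add]
      simp
    rw [h6]
    simp only [Matrix.mul_assoc]
    abel

end Kernel

section Pure

variable {k : Type u} [Field k] {σ : Type} [Fintype σ]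

noncomputable instance fintypeDeg [Finite σ] (n : ℕ) : Fintype {β : σ →₀ ℕ // β.degree = n} :=
  have : Finite {β : σ →₀ ℕ // β.degree = n} := (Finsupp.finite_of_degree_eq (σ := σ) n).to_subtype
  Fintype.ofFinite _

/-- The value at `v` of the form of degree `3` with coefficients `c`. -/
noncomputable def g3 {R : Type v} [CommRing R] (c : (σ →₀ ℕ) → R) (v : σ → R) : R :=
  ∑ β : {β : σ →₀ ℕ // β.degree = 3}, c β.1 * ∏ i, v i ^ β.1 i

/-- Restriction to the line through `v`. -/
noncomputable def line (v : σ → k) : MvPolynomial σ k →ₐ[k] Polynomial k :=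
  aeval fun i => Polynomial.C (v i) * Polynomial.X

theorem line_monomial (v : σ → k) (β : σ →₀ ℕ) (c : k) :
    line v (monomial β c) = Polynomial.C (c * ∏ i, v i ^ β i) * Polynomial.X ^ β.degree := by
  rw [line, aeval_monomial, Finsupp.prod_fintype _ _ (fun i => pow_zero _)]
  simp only [mul_pow, Finset.prod_mul_distrib, Finset.prod_pow_eq_pow_sum, ← Polynomial.C_pow, ← map_prod]
  rw [← mul_assoc, Finsupp.degree_eq_sum]
  congr 1
  change Polynomial.C c * _ = _
  rw [← Polynomial.C_mul]

theorem coeff_line (v : σ → k) (G : MvPolynomial σ k) (n : ℕ) :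
    (line v G).coeff n = ∑ β ∈ G.support, if β.degree = n then coeff β G * ∏ i, v i ^ β i else 0 := by
  conv_lhs => rw [G.as_sum]
  rw [map_sum, Polynomial.finsetSum_coeff]
  refine Finset.sum_congr rfl fun β _ => ?_
  rw [line_monomial, Polynomial.coeff_C_mul_X_pow]
  by_cases h : β.degree = n
  · rw [if_pos h.symm, if_pos h]
  · rw [if_neg (Ne.symm h), if_neg h]

theorem coeff_line_three (v : σ → k) (G : MvPolynomial σ k) : (line v G).coeff 3 = g3 (fun β => coeff β G) v := by
  classical
  rw [coeff_line, ← Finset.sum_filter, g3]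
  have h1 : ∑ β ∈ G.support.filter (fun β => β.degree = 3), coeff β G * ∏ i, v i ^ β i =
      ∑ β ∈ (Finset.univ : Finset {β : σ →₀ ℕ // β.degree = 3}).map (Function.Embedding.subtype _),
        coeff β G * ∏ i, v i ^ β i := by
    refine Finset.sum_subset ?_ ?_
    · intro β hβ
      rw [Finset.mem_filter] at hβ
      exact Finset.mem_map.mpr ⟨⟨β, hβ.2⟩, Finset.mem_univ _, rfl⟩
    · intro β hβ hβ'
      obtain ⟨γ, -, rfl⟩ := Finset.mem_map.mp hβ
      rw [Finset.mem_filter, not_and, mem_support_iff] at hβ'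
      have h2 : coeff γ.1 G = 0 := by
        by_contra hne
        exact hβ' hne γ.2
      change coeff γ.1 G * _ = 0
      rw [h2, zero_mul]
  rw [h1, Finset.sum_map]
  rfl

theorem coeff_line_z {κ : Type} [Fintype κ] [DecidableEq κ] (G : MvPolynomial (Unit ⊕ (κ ⊕ κ)) k) (n : ℕ) :
    (line (Sum.elim (fun _ => 1) (fun _ => 0)) G).coeff n = coeff (Finsupp.single (Sum.inl ()) n) G := by
  classical
  rw [coeff_line]
  have h0 : ∀ β : Unit ⊕ (κ ⊕ κ) →₀ ℕ, β ≠ Finsupp.single (Sum.inl ()) n → β.degree = n →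
      ∏ i, (Sum.elim (fun _ => (1 : k)) (fun _ => 0) : Unit ⊕ (κ ⊕ κ) → k) i ^ β i = 0 := by
    intro β hβ hd
    obtain ⟨j, hj⟩ : ∃ j, β (Sum.inr j) ≠ 0 := by
      by_contra! hcon
      apply hβ
      have h2 : β.degree = β (Sum.inl ()) := by
        rw [Finsupp.degree_eq_sum, Fintype.sum_sum_type, Finset.sum_eq_zero (fun j _ => hcon j)]
        simp
      ext (x | x)
      · rw [← hd, h2, Finsupp.single_eq_same]
      · rw [hcon x, Finsupp.single_eq_of_ne (by simp)]
    refine Finset.prod_eq_zero (Finset.mem_univ (Sum.inr j)) ?_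
    rw [Sum.elim_inr]
    exact zero_pow hj
  by_cases h : Finsupp.single (Sum.inl ()) n ∈ G.support
  · rw [Finset.sum_eq_single (Finsupp.single (Sum.inl ()) n)]
    · rw [Finsupp.degree_single, if_pos rfl, Fintype.prod_sum_type]
      simp
    · intro β _ hβ
      split_ifs with hd
      · rw [h0 β hβ hd, mul_zero]
      · rfl
    · intro hc
      exact absurd h hc
  · rw [mem_support_iff, not_not] at h
    rw [h]
    refine Finset.sum_eq_zero fun β hβ => ?_
    split_ifs with hd
    · rw [h0 β (fun hc => ?_) hd, mul_zero]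
      rw [hc, mem_support_iff] at hβ
      exact hβ h
    · rfl

/-- The coefficient of `z³` after the linear substitution with matrix `W` is the cubic part at the column of `z`. -/
theorem coeff_z_linHom {κ : Type} [Fintype κ] [DecidableEq κ] [DecidableEq σ] (W : Matrix σ (Unit ⊕ (κ ⊕ κ)) k) (G : MvPolynomial σ k) :
    coeff (Finsupp.single (Sum.inl ()) 3) (linHom W G) = g3 (fun β => coeff β G) (fun i => W i (Sum.inl ())) := by
  rw [← coeff_line_z, ← coeff_line_three]
  have h1 : (line (Sum.elim (fun _ => (1 : k)) (fun _ => 0))).comp (linHom W) = line fun i => W i (Sum.inl ()) := by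
    apply MvPolynomial.algHom_ext
    intro i
    rw [AlgHom.comp_apply, linHom_X, map_sum, Fintype.sum_sum_type, line, line, aeval_X]
    simp only [Finset.univ_unique, Finset.sum_singleton, map_mul, aeval_X, Sum.elim_inl, Sum.elim_inr, map_zero,
      zero_mul, mul_zero, Finset.sum_const_zero, add_zero, map_one, one_mul]
    congr 1
    exact aeval_C _ _
  rw [← h1]
  rfl

end Pure

section Main

variable {k : Type u} [Field k] [IsAlgClosed k]

theorem formPoly_blocks (m : ℕ) (q l : k) :
    formPoly (Matrix.fromBlocks (fun _ _ => q) 0 0 (l • Matrix.fromBlocks 0 1 0 0) :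
      Matrix (Unit ⊕ (Fin m ⊕ Fin m)) (Unit ⊕ (Fin m ⊕ Fin m)) k) = C q * z k (Fin m) ^ 2 + C l * hyp' k (Fin m) := by
  classical
  simp only [formPoly, Fintype.sum_sum_type, Finset.univ_unique, Finset.sum_singleton, Matrix.fromBlocks_apply₁₁,
    Matrix.fromBlocks_apply₁₂, Matrix.fromBlocks_apply₂₁, Matrix.fromBlocks_apply₂₂, Matrix.zero_apply, map_zero,
    zero_mul, Finset.sum_const_zero, add_zero, zero_add, Matrix.smul_apply, smul_eq_mul, mul_zero, Matrix.one_apply,
    mul_ite, mul_one, hyp', Finset.mul_sum]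
  congr 1
  · change C q * X (Sum.inl ()) * X (Sum.inl ()) = _
    ring
  · refine Finset.sum_congr rfl fun i _ => ?_
    rw [Finset.sum_eq_single i]
    · rw [if_pos rfl]
      ring
    · intro j _ hj
      rw [if_neg (Ne.symm hj), map_zero, zero_mul, zero_mul]
    · intro h
      exact absurd (Finset.mem_univ _) h

/-- **The case of an odd number of variables in characteristic two.** -/
theorem isGen_of_two {s : ℕ} (g : MvPolynomial (Fin s) k) (a : Fin s → k)
    (hg : ∀ i, coeff (Finsupp.single i 1) (tr a g) = 0) (hs : ¬ s % 2 = 0) (h2 : (2 : k) = 0) (i₀ : Fin s)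
    (A : Matrix (Fin s) (Fin s) k) (hA : A = Amat fun β => coeff β (tr a g))
    (w : Fin s → k) (hw0 : w i₀ ≠ 0) (hw : ∀ j, j ≠ i₀ → (A + A.transpose).mulVec w j = 0)
    (hJ : ((A + A.transpose).submatrix (Subtype.val : {i // i ≠ i₀} → Fin s) Subtype.val).det ≠ 0)
    (hQ : ∑ j, (∑ i, w i * A i j) * w j ≠ 0) (hC : g3 (fun β => coeff β (tr a g)) w ≠ 0) :
    IsGen g a := by
  classical
  have hchar : CharP k 2 := CharTwo.of_one_ne_zero_of_two_eq_zero one_ne_zero h2
  set m := s / 2 with hm
  set α := ∑ j, (∑ i, w i * A i j) * w j with hα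
  set β₃ := g3 (fun β => coeff β (tr a g)) w with hβ
  set μ := α / β₃ with hμ
  set l := α * μ ^ 2 with hl
  have hμ0 : μ ≠ 0 := div_ne_zero hQ hC
  have hl0 : l ≠ 0 := mul_ne_zero hQ (pow_ne_zero _ hμ0)
  have hl' : μ ^ 3 * β₃ = l := by
    rw [hl, hμ]
    field_simp
  obtain ⟨W, W', hW, hW', hWz, halt⟩ := exists_split i₀ A m (by rw [Fintype.card_fin]; omega) (fun i => μ * w i)
    (mul_ne_zero hμ0 hw0) (fun j hj => by
      have h3 : (fun i => μ * w i) = μ • w := rfl
      rw [h3, Matrix.mulVec_smul, Pi.smul_apply, hw j hj, smul_zero]) hJ l hl0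
  have hα' : ∑ j, (∑ i, μ * w i * A i j) * (μ * w j) = l := by
    rw [hl, hα, Finset.sum_mul]
    refine Finset.sum_congr rfl fun j _ => ?_
    have h3 : ∑ i, μ * w i * A i j = μ * ∑ i, w i * A i j := by
      rw [Finset.mul_sum]
      exact Finset.sum_congr rfl fun i _ => by ring
    rw [h3]
    ring
  have hβ' : g3 (fun β => coeff β (tr a g)) (fun i => W i (Sum.inl ())) = l := by
    rw [← hl', hβ, g3, g3, Finset.mul_sum]
    refine Finset.sum_congr rfl fun β _ => ?_
    simp only [hWz, mul_pow, Finset.prod_mul_distrib, Finset.prod_pow_eq_pow_sum]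
    rw [← Finsupp.degree_eq_sum, β.2]
    ring
  have h3 := sub_mem_three (tr a g) hg
  rw [← hA] at h3
  have hform : linHom W (formPoly A) = C l * (hyp' k (Fin m) + z k (Fin m) ^ 2) := by
    have h4 := formPoly_isAlt _ halt
    rw [formPoly_sub, sub_eq_zero, hα', formPoly_blocks] at h4
    rw [linHom_formPoly, h4]
    ring
  have hstd : std k s = rename (exists_equiv_odd hs).some (hyp' k (Fin (s / 2)) + (z k (Fin (s / 2)) ^ 2 +
      z k (Fin (s / 2)) ^ 3)) := by
    rw [std, dif_neg hs, odd, if_pos h2]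
  have hloc : Loc a ((linHom W).comp (tr (k := k) a)) := (loc_tr a).comp (loc_linHom W W' hW hW')
  set h := linHom W (tr a g - C (constantCoeff (tr a g)) - formPoly A) with hh
  have hh3 : h ∈ idealOfVars (Unit ⊕ (Fin m ⊕ Fin m)) k ^ 3 := map_mem_pow _ (loc_linHom W W' hW hW').1 3 _ h3
  have hh' : linHom W (tr a g) = C (constantCoeff (tr a g)) + C l * (hyp' k (Fin m) + z k (Fin m) ^ 2) + h := by
    rw [hh, map_sub, map_sub, hform, linHom_C]
    ring
  have hz3 : coeff (Finsupp.single (Sum.inl ()) 3) h = l := by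
    have h5 : h = linHom W (tr a g) - C (constantCoeff (tr a g)) - C l * hyp' k (Fin m) - C l * z k (Fin m) ^ 2 := by
      rw [hh']
      ring
    rw [h5, coeff_sub, coeff_sub, coeff_sub, coeff_z_linHom, hβ', coeff_C, if_neg, coeff_C_mul, coeff_C_mul,
      coeff_X_pow, if_neg, hyp', coeff_sum, Finset.sum_eq_zero]
    · simp
    · intro j _
      rw [coeff_mul_X', if_neg]
      rw [Finsupp.mem_support_iff, not_not, Finsupp.single_apply, if_neg]
      simp
    · intro hc
      have := congrArg (fun f => f (Sum.inl ())) hc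
      simp at this
    · intro hc
      have := congrArg (fun f => f (Sum.inl ())) hc
      simp at this
  refine finish _ _ hstd g a fun M => ?_
  refine mem_of_comp _ (fun h => coeff (Finsupp.single (Sum.inl ()) 3) h = 0)
    (fun e h he hh h3 => step_two e h he hh h3) g a
    ((linHom W).comp (tr (k := k) a)) (constantCoeff (tr a g)) l hl0 hloc
    (C l⁻¹ * h - z k (Fin m) ^ 3) (sub_mem (Ideal.mul_mem_left _ _ hh3) (Ideal.pow_mem_pow (X_mem _) 3)) ?_ ?_ M
  · rw [coeff_sub, coeff_C_mul, hz3, coeff_X_pow, if_pos rfl, inv_mul_cancel₀ hl0, sub_self]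
  · rw [AlgHom.comp_apply, hh']
    have h6 : C l * C l⁻¹ = (1 : MvPolynomial (Unit ⊕ (Fin m ⊕ Fin m)) k) := by
      rw [← C_mul, mul_inv_cancel₀ hl0, C_1]
    linear_combination (- h) * h6

end Main

end Groth.Agent.Vancyc.H261.GenPtTwo
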