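import Groth.Agent.Lefpen.H702.Generic
import Mathlib.LinearAlgebra.Matrix.ToLinearEquiv
import Mathlib.RingTheory.MvPolynomial.Homogeneous
import Mathlib.Algebra.MvPolynomial.Funext
import Mathlib.Algebra.CharZero.Infinite

/-!
# Morsification with prescribed jet and Fermat top form (characteristic zero)

For a polynomial `φ` in the variables `X i`, `i : σ`, over a field `k` of characteristic zero and every `N ≥ 2` there is a
form `h` of degree `N` such that all critical points `x ≠ 0` of `g = φ + h + ∑ X i ^ (N + 1)` (over `k`) are nondegenerate.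
The form `h` is a general linear combination of the `N`-th powers of the linear forms `X a + X b`.
-/

set_option autoImplicit false
set_option linter.unusedSectionVars false

universe u

open MvPolynomial

namespace Groth.Agent.Vancyc.H261.Morsify

variable {k : Type u} [Field k] {σ : Type} [Fintype σ] [DecidableEq σ]

/-- The linear form `X a + X b`. -/
noncomputable def lin (k : Type u) [Field k] {σ : Type} (j : σ × σ) : MvPolynomial σ k := X j.1 + X j.2

/-- The form `∑ c_j (X a + X b) ^ N`, `j = (a, b)`. -/
noncomputable def form (N : ℕ) (c : σ × σ → k) : MvPolynomial σ k := ∑ j, C (c j) * lin k j ^ N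

/-- The Fermat form `∑ X i ^ N`. -/
noncomputable def fermat (k : Type u) [Field k] (σ : Type) [Fintype σ] (N : ℕ) : MvPolynomial σ k := ∑ i, X i ^ N

theorem form_isHomogeneous (N : ℕ) (c : σ × σ → k) : (form N c).IsHomogeneous N := by
  refine IsHomogeneous.sum _ _ _ fun j _ => ?_
  have h1 : (lin k j).IsHomogeneous 1 := (isHomogeneous_X _ _).add (isHomogeneous_X _ _)
  have h2 := h1.pow N
  rw [one_mul] at h2
  simpa using (isHomogeneous_C σ (c j)).mul h2

theorem fermat_isHomogeneous (N : ℕ) : (fermat k σ N).IsHomogeneous N := by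
  refine IsHomogeneous.sum _ _ _ fun i _ => ?_
  simpa using (isHomogeneous_X k i).pow N

/-- The universal polynomial `φ + ∑ c_j (X a + X b) ^ N + ∑ X i ^ (N + 1)`. -/
noncomputable def G (φ : MvPolynomial σ k) (N : ℕ) : MvPolynomial ((σ × σ) ⊕ σ) k :=
  rename Sum.inr φ + ∑ j : σ × σ, X (Sum.inl j) * rename Sum.inr (lin k j ^ N) + rename Sum.inr (fermat k σ (N + 1))

/-- Substituting constants for the parameters. -/
noncomputable def sub (c : σ × σ → k) : MvPolynomial ((σ × σ) ⊕ σ) k →ₐ[k] MvPolynomial σ k :=
  aeval (Sum.elim (fun j => C (c j)) X)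

theorem sub_G (φ : MvPolynomial σ k) (N : ℕ) (c : σ × σ → k) :
    sub c (G φ N) = φ + form N c + fermat k σ (N + 1) := by
  have h : ∀ p : MvPolynomial σ k, sub c (rename Sum.inr p) = p := fun p => by
    rw [sub, aeval_rename]
    change aeval (fun i => X i) p = p
    exact aeval_X_left_apply p
  simp only [G, map_add, map_sum, map_mul, h, form]
  congr 2
  refine Finset.sum_congr rfl fun j _ => ?_
  rw [sub, aeval_X]
  rfl

theorem pderiv_sub (c : σ × σ → k) (i : σ) (p : MvPolynomial ((σ × σ) ⊕ σ) k) :
    pderiv i (sub c p) = sub c (pderiv (Sum.inr i) p) := by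
  induction p using MvPolynomial.induction_on with
  | C a =>
    have : sub c (C a) = C a := by rw [sub, aeval_C]; rfl
    rw [this, pderiv_C, pderiv_C, map_zero]
  | add p q hp hq => simp only [map_add, hp, hq]
  | mul_X p v hp =>
    rw [map_mul, Derivation.leibniz, hp, Derivation.leibniz, map_add, smul_eq_mul, smul_eq_mul, smul_eq_mul,
      smul_eq_mul, map_mul, map_mul]
    congr 2
    rcases v with j | l
    · rw [sub, aeval_X, Sum.elim_inl, pderiv_C, pderiv_X_of_ne (by simp), map_zero]
    · rw [sub, aeval_X, Sum.elim_inr]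
      by_cases h : i = l
      · subst h
        rw [pderiv_X_self, pderiv_X_self, map_one]
      · rw [pderiv_X_of_ne (Ne.symm h), pderiv_X_of_ne (by simpa using Ne.symm h), map_zero]

theorem eval_sub (c : σ × σ → k) (x : σ → k) (p : MvPolynomial ((σ × σ) ⊕ σ) k) :
    eval x (sub c p) = aeval (Sum.elim c x) p := by
  have h : (aeval x : MvPolynomial σ k →ₐ[k] k).comp (sub c) = aeval (Sum.elim c x) := by
    apply MvPolynomial.algHom_ext
    rintro (j | i)
    · simp [sub]
    · simp [sub]
  have h2 := DFunLike.congr_fun h p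
  rw [← h2]
  rfl

/-- The second derivative of `G` in the direction of the parameter `c_j` and of `X i`. -/
theorem pderiv_pderiv_G (φ : MvPolynomial σ k) (N : ℕ) (j : σ × σ) (i : σ) :
    pderiv (Sum.inl j) (pderiv (Sum.inr i) (G φ N)) = rename Sum.inr (pderiv i (lin k j ^ N)) := by
  have h1 : ∀ (i : σ) (p : MvPolynomial σ k), pderiv (Sum.inr i : (σ × σ) ⊕ σ) (rename Sum.inr p) =
      rename Sum.inr (pderiv i p) := fun i p => pderiv_rename Sum.inr_injective _ _
  have h2 : ∀ (j : σ × σ) (p : MvPolynomial σ k), pderiv (Sum.inl j : (σ × σ) ⊕ σ) (rename Sum.inr p) = 0 := by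
    intro j p
    induction p using MvPolynomial.induction_on with
    | C a => simp
    | add p q hp hq => simp only [map_add, hp, hq, add_zero]
    | mul_X p v hp =>
      rw [map_mul, Derivation.leibniz, hp, rename_X, pderiv_X_of_ne (by simp), smul_zero, smul_zero, add_zero]
  simp only [G, map_add, map_sum, h1, h2, Derivation.leibniz, smul_eq_mul, zero_add, add_zero]
  rw [Finset.sum_eq_single j]
  · rw [pderiv_X_self, pderiv_X_of_ne (by simp)]
    simp
  · intro b _ hb
    rw [pderiv_X_of_ne (by simpa using hb), pderiv_X_of_ne (by simp)]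
    simp
  · simp

/-- The Hessian matrix of `G` with respect to the variables of `φ`. -/
noncomputable def hess (φ : MvPolynomial σ k) (N : ℕ) : Matrix σ σ (MvPolynomial ((σ × σ) ⊕ σ) k) :=
  fun i j => pderiv (Sum.inr j) (pderiv (Sum.inr i) (G φ N))

/-- The core: over a field of characteristic zero, a critical point `x ≠ 0` of `G` with algebraically independent
parameters `c` has an invertible Hessian. -/
theorem det_ne_zero [CharZero k] (φ : MvPolynomial σ k) {N : ℕ} (hN : 2 ≤ N) (K : Type u) [Field K] [Algebra k K]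
    (c : σ × σ → K) (x : σ → K) (hc : AlgebraicIndependent k c) (l : σ) (hl : x l ≠ 0)
    (hx : ∀ i, aeval (Sum.elim c x) (pderiv (Sum.inr i) (G φ N)) = 0) :
    aeval (Sum.elim c x) (hess φ N).det ≠ 0 := by
  have : CharZero K := charZero_of_injective_algebraMap (algebraMap k K).injective
  intro hdet
  have hdet' : ((hess φ N).map (aeval (Sum.elim c x))).det = 0 := by
    have := AlgHom.map_det (aeval (R := k) (Sum.elim c x)) (hess φ N)
    rw [hdet] at this
    exact this.symm
  obtain ⟨w, hw0, hw⟩ := Matrix.exists_vecMul_eq_zero_iff.mpr hdet'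
  apply hw0
  -- the key relations
  have key : ∀ a b : σ, (x a + x b) ≠ 0 → w a + w b = 0 := by
    intro a b hab
    obtain ⟨D, hD⟩ := Lefpen.H702.Generic.exists_derivation c hc (Pi.single (a, b) 1)
    have h1 : ∀ i, aeval (Sum.elim c x) (rename Sum.inr (pderiv i (lin k (a, b) ^ N)) :
        MvPolynomial ((σ × σ) ⊕ σ) k) + ∑ m, aeval (Sum.elim c x) (hess φ N i m) * D (x m) = 0 := by
      intro i
      have h2 := Lefpen.H702.Generic.derivation_aeval D (Sum.elim c x) (pderiv (Sum.inr i) (G φ N))
      rw [hx i, map_zero, Fintype.sum_sum_type] at h2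
      rw [← pderiv_pderiv_G φ N (a, b) i]
      simp only [Sum.elim_inl, Sum.elim_inr, hD] at h2
      rw [Finset.sum_eq_single (a, b)] at h2
      · rw [Pi.single_eq_same, mul_one] at h2
        exact h2.symm
      · intro j _ hj
        rw [Pi.single_eq_of_ne hj, mul_zero]
      · simp
    have h3 : ∑ i, w i * aeval (Sum.elim c x) (rename Sum.inr (pderiv i (lin k (a, b) ^ N)) :
        MvPolynomial ((σ × σ) ⊕ σ) k) = 0 := by
      have h4 : ∑ i, w i * ∑ m, aeval (Sum.elim c x) (hess φ N i m) * D (x m) = 0 := by
        simp only [Finset.mul_sum]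
        rw [Finset.sum_comm]
        refine Finset.sum_eq_zero fun m _ => ?_
        have h5 : ∑ i, w i * aeval (Sum.elim c x) (hess φ N i m) = 0 := congrFun hw m
        rw [← zero_mul (D (x m)), ← h5, Finset.sum_mul]
        exact Finset.sum_congr rfl fun i _ => by ring
      have h6 : ∑ i, w i * (aeval (Sum.elim c x) (rename Sum.inr (pderiv i (lin k (a, b) ^ N)) :
          MvPolynomial ((σ × σ) ⊕ σ) k) + ∑ m, aeval (Sum.elim c x) (hess φ N i m) * D (x m)) = 0 :=
        Finset.sum_eq_zero fun i _ => by rw [h1 i, mul_zero]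
      simpa only [mul_add, Finset.sum_add_distrib, h4, add_zero] using h6
    have h7 : ∀ i, aeval (Sum.elim c x) (rename Sum.inr (pderiv i (lin k (a, b) ^ N)) :
        MvPolynomial ((σ × σ) ⊕ σ) k) = N * (x a + x b) ^ (N - 1) * ((if i = a then 1 else 0) + (if i = b then 1 else 0)) := by
      intro i
      rw [aeval_rename, Derivation.leibniz_pow, lin, map_add, pderiv_X, pderiv_X]
      have h8 : ∀ a' : σ, aeval (R := k) (Sum.elim c x ∘ Sum.inr)
          ((Pi.single i (1 : MvPolynomial σ k) : σ → MvPolynomial σ k) a') = (if i = a' then (1 : K) else 0) := by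
        intro a'
        rw [Pi.single_apply]
        by_cases h : i = a'
        · subst h; simp
        · rw [if_neg h, if_neg (Ne.symm h), map_zero]
      rw [nsmul_eq_mul, smul_eq_mul]
      simp only [map_mul, map_add, map_pow, aeval_X, map_natCast, h8]
      simp only [Function.comp, Sum.elim_inr]
      ring
    simp only [h7] at h3
    have h9 : (N : K) * (x a + x b) ^ (N - 1) * (w a + w b) = 0 := by
      rw [← h3]
      have : ∀ i, w i * ((N : K) * (x a + x b) ^ (N - 1) * ((if i = a then (1 : K) else 0) + (if i = b then (1 : K) else 0))) =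
          (if i = a then (N : K) * (x a + x b) ^ (N - 1) * w a else 0) +
            (if i = b then (N : K) * (x a + x b) ^ (N - 1) * w b else 0) := by
        intro i
        split_ifs with h h' h'
        · subst h; subst h'; ring
        · subst h; ring
        · subst h'; ring
        · ring
      rw [Finset.sum_congr rfl fun i _ => this i, Finset.sum_add_distrib, Finset.sum_ite_eq', Finset.sum_ite_eq']
      simp only [Finset.mem_univ, if_true]
      ring
    rcases mul_eq_zero.mp h9 with h | h
    · exact absurd h (mul_ne_zero (by exact_mod_cast (by omega : N ≠ 0)) (pow_ne_zero _ hab))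
    · exact h
  have key2 : ∀ a, x a ≠ 0 → w a = 0 := by
    intro a ha
    have h2 : (2 : K) ≠ 0 := two_ne_zero
    have := key a a (by rw [← two_mul]; exact mul_ne_zero h2 ha)
    rw [← two_mul] at this
    exact (mul_eq_zero.mp this).resolve_left h2
  funext a
  by_cases hal : x a + x l = 0
  · refine key2 a ?_
    intro ha
    rw [ha, zero_add] at hal
    exact hl hal
  · have := key a l hal
    rw [key2 l hl, add_zero] at this
    exact this

/-- A nonzero polynomial in the parameters which vanishes as soon as there is a degenerate critical point `x ≠ 0`. -/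
theorem exists_polynomial [CharZero k] (φ : MvPolynomial σ k) {N : ℕ} (hN : 2 ≤ N) :
    ∃ F : MvPolynomial (σ × σ) k, F ≠ 0 ∧ ∀ (c : σ × σ → k) (x : σ → k), x ≠ 0 →
      (∀ i, aeval (Sum.elim c x) (pderiv (Sum.inr i) (G φ N)) = 0) → aeval (Sum.elim c x) (hess φ N).det = 0 →
      eval c F = 0 := by
  have h1 : ∀ l : σ, ∃ F : MvPolynomial (σ × σ) k, F ≠ 0 ∧ ∀ (c : σ × σ → k) (x : σ → k), x l ≠ 0 →
      (∀ i, aeval (Sum.elim c x) (pderiv (Sum.inr i) (G φ N)) = 0) → aeval (Sum.elim c x) (hess φ N).det = 0 →
      eval c F = 0 := by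
    intro l
    let ρ : MvPolynomial ((σ × σ) ⊕ σ) k →ₐ[k] MvPolynomial ((σ × σ) ⊕ Option σ) k := rename (Sum.map id some)
    have hρ : ∀ (K : Type u) [Field K] [Algebra k K] (y : σ × σ → K) (p : Option σ → K)
        (P : MvPolynomial ((σ × σ) ⊕ σ) k), aeval (Sum.elim y p) (ρ P) = aeval (Sum.elim y (p ∘ some)) P := by
      intro K _ _ y p P
      rw [aeval_rename]
      congr 2
      funext v
      rcases v with j | i <;> rfl
    let S : Set (MvPolynomial ((σ × σ) ⊕ Option σ) k) :=
      (Set.range fun i => ρ (pderiv (Sum.inr i) (G φ N))) ∪ {ρ (hess φ N).det} ∪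
        {X (Sum.inr (some l)) * X (Sum.inr none) - 1}
    obtain ⟨F, hF, hF'⟩ := Lefpen.H702.Generic.exists_polynomial_of_system (k := k) S (by
      intro K _ _ y p hP hy
      have h2 : p (some l) * p none = 1 := by
        have := hP _ (Or.inr rfl)
        simpa [sub_eq_zero] using this
      refine det_ne_zero φ hN K y (p ∘ some) hy l (left_ne_zero_of_mul_eq_one h2) (fun i => ?_) ?_
      · rw [← hρ]
        exact hP _ (Or.inl (Or.inl ⟨i, rfl⟩))
      · rw [← hρ]
        exact hP _ (Or.inl (Or.inr rfl)))
    refine ⟨F, hF, fun c x hx h2 h3 => ?_⟩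
    have h4 := hF' c (fun o => o.elim (x l)⁻¹ x) (by
      rintro P ((⟨i, rfl⟩ | rfl) | rfl)
      · change aeval _ (ρ _) = _
        rw [hρ]
        exact h2 i
      · rw [hρ]
        exact h3
      · simp [hx])
    rwa [aeval_eq_eval] at h4
  choose F hF hF' using h1
  refine ⟨∏ l, F l, Finset.prod_ne_zero_iff.mpr fun l _ => hF l, fun c x hx h2 h3 => ?_⟩
  obtain ⟨l, hl⟩ := Function.ne_iff.mp hx
  rw [map_prod]
  exact Finset.prod_eq_zero (Finset.mem_univ l) (hF' l c x hl h2 h3)

/-- **Morsification.** For a polynomial `φ` over a field of characteristic zero and `N ≥ 2` there is a form `h` of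
degree `N` such that every critical point `x ≠ 0` of `φ + h + ∑ X i ^ (N + 1)` is nondegenerate. -/
theorem exists_form [CharZero k] (φ : MvPolynomial σ k) {N : ℕ} (hN : 2 ≤ N) :
    ∃ h : MvPolynomial σ k, h.IsHomogeneous N ∧ ∀ x : σ → k, x ≠ 0 →
      (∀ i, eval x (pderiv i (φ + h + fermat k σ (N + 1))) = 0) →
      IsUnit (Matrix.det (Matrix.of fun i j =>
        eval x (pderiv j (pderiv i (φ + h + fermat k σ (N + 1)))))) := by
  obtain ⟨F, hF, hF'⟩ := exists_polynomial φ hN
  have : Infinite k := CharZero.infinite k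
  obtain ⟨c, hc⟩ : ∃ c : σ × σ → k, eval c F ≠ 0 := by
    by_contra! hcon
    exact hF (MvPolynomial.funext fun c => by rw [hcon c, map_zero])
  refine ⟨form N c, form_isHomogeneous N c, fun x hx h1 => ?_⟩
  rw [isUnit_iff_ne_zero]
  intro h2
  refine hc (hF' c x hx (fun i => ?_) ?_)
  · rw [← eval_sub, ← pderiv_sub, sub_G]
    exact h1 i
  · rw [AlgHom.map_det, ← h2]
    congr 1
    ext i j
    rw [AlgHom.mapMatrix_apply, Matrix.map_apply, hess, ← eval_sub, ← pderiv_sub, ← pderiv_sub, sub_G]
    rfl

end Groth.Agent.Vancyc.H261.Morsify
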